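import Groth.Agent.H28.FaceSquare
import Groth.Agent.H28.MagnetFixed
import Groth.Agent.MagnetLib.Mono
import Groth.Agent.S18294
import Mathlib.AlgebraicGeometry.Sites.Fpqc
import Mathlib.CategoryTheory.Limits.Types.Pullbacks

/-! Attractors of a scheme with an FPR atlas: lifting to the atlas etale-locally, and descent. -/

set_option autoImplicit false
set_option linter.style.haveILetI false
set_option backward.isDefEq.respectTransparency false
set_option backward.isDefEq.respectTransparency.types false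

universe u

open CategoryTheory CategoryTheory.Limits MonoidalCategory CartesianMonoidalCategory MonObj AlgebraicGeometry
open Opposite Magnet

namespace Groth.Agent.MagnetLib.AtlasLift

variable {S : Scheme.{u}} {M : Type} [AddCommGroup M] [AddGroup.FG M] {U X : Over S}
  (aU : MonAct (AMonS S M) U) (a : MonAct (AMonS S M) X) (g : U ⟶ X) (hg : MonAct.IsEquivariant aU a g)

omit [AddGroup.FG M] in
/-- The evaluation at the unit of a composite with an equivariant map. -/
theorem attrToX_postcomp (N : AddSubmonoid M) {T : Over S} (χ : (attr aU N).obj (op T)) :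
    (attrToX a N).app (op T) ((MonAct.eqvHom.postcomp (subAct S M N) g hg).app (op T) χ) =
      (attrToX aU N).app (op T) χ ≫ g := by
  show lift (toUnit T ≫ η[AMonS S N]) (𝟙 T) ≫ χ.1 ≫ g = (lift (toUnit T ≫ η[AMonS S N]) (𝟙 T) ≫ χ.1) ≫ g
  rw [Category.assoc]

include hg in
theorem exists_cover_lift [IsAffineHom U.hom] [Etale g.left] [Surjective g.left] (N : AddSubmonoid M)
    (Z : AddSubgroup M) (hQ : IsFace N Z.toAddSubmonoid)
    (hA : ∀ (W : Over S) [IsAffine W.left], H28.FaceSquare.Lifts aU a g hQ W (N := N))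
    (hgZ : MonAct.IsEquivariant (aU.restrict (AMonS.map S (QuotientAddGroup.mk' Z)))
      (a.restrict (AMonS.map S (QuotientAddGroup.mk' Z))) g)
    (hfpr : IsPullback (MonAct.fixedPsh.map g hgZ)
      (MonAct.fixedPshι (aU.restrict (AMonS.map S (QuotientAddGroup.mk' Z))))
      (MonAct.fixedPshι (a.restrict (AMonS.map S (QuotientAddGroup.mk' Z)))) (yoneda.map g))
    {T : Over S} (φ : (attr a N).obj (op T)) :
    ∃ (T' : Over S) (t : T' ⟶ T) (χ : (attr aU N).obj (op T')), Etale t.left ∧ Surjective t.left ∧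
      (MonAct.eqvHom.postcomp (subAct S M N) g hg).app (op T') χ = (attr a N).map t.op φ := by
  let ψ := (attrFace a hQ).app (op T) φ
  let y : T ⟶ X := (attrToX a Z.toAddSubmonoid).app (op T) ψ
  let T' : Over S := Over.mk (Limits.pullback.fst y.left g.left ≫ T.hom)
  let t : T' ⟶ T := Over.homMk (Limits.pullback.fst y.left g.left) rfl
  let v : T' ⟶ U := Over.homMk (Limits.pullback.snd y.left g.left) (by
    show _ = Limits.pullback.fst _ _ ≫ _
    rw [← Over.w g, ← Category.assoc, ← pullback.condition, Category.assoc, Over.w y])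
  have hv : t ≫ y = v ≫ g := Over.OverMorphism.ext pullback.condition
  haveI : Etale t.left := inferInstanceAs (Etale (Limits.pullback.fst y.left g.left))
  haveI : Surjective t.left := inferInstanceAs (Surjective (Limits.pullback.fst y.left g.left))
  let ψ' := (attr a Z.toAddSubmonoid).map t.op ψ
  have hy' : (attrToX a Z.toAddSubmonoid).app (op T') ψ' = t ≫ y := by
    show lift (toUnit T' ≫ η[AMonS S Z.toAddSubmonoid]) (𝟙 T') ≫ (AMonS S Z.toAddSubmonoid ◁ t) ≫ ψ.1 =
      t ≫ lift (toUnit T ≫ η[AMonS S Z.toAddSubmonoid]) (𝟙 T) ≫ ψ.1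
    rw [lift_whiskerLeft_assoc, Category.id_comp, comp_lift_assoc, Category.comp_id, ← Category.assoc t (toUnit T),
      comp_toUnit]
  let xX : (MonAct.fixedPsh (a.restrict (AMonS.map S (QuotientAddGroup.mk' Z)))).obj (op T') :=
    ⟨(attrToX a Z.toAddSubmonoid).app (op T') ψ', H28.MagnetFixed.evalAt_fixed Z a ψ'⟩
  obtain ⟨xU, hxU1, hxU2⟩ := ((Types.isPullback_iff _ _ _ _).1 (hfpr.app (op T'))).2.2 xX v (hy'.trans hv)
  obtain ⟨ψU, hψU⟩ := H28.MagnetFixed.exists_evalAt_eq Z aU xU
  have hpost : (MonAct.eqvHom.postcomp (subAct S M Z.toAddSubmonoid) g hg).app (op T') ψU = ψ' := by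
    apply H28.MagnetFixed.evalAt_injective Z a
    rw [attrToX_postcomp, hψU, show xU.1 = v from hxU2, hy', hv]
  have hface : (AMonS.faceMap S hQ ▷ T') ≫ ((attr a N).map t.op φ).1 = ψU.1 ≫ g := by
    refine Eq.trans ?_ (congrArg Subtype.val hpost).symm
    show (AMonS.faceMap S hQ ▷ T') ≫ (AMonS S N ◁ t) ≫ φ.1 = (AMonS S Z.toAddSubmonoid ◁ t) ≫ ψ.1
    rw [← whisker_exchange_assoc]
    rfl
  obtain ⟨χ, ⟨hχ, -⟩, -⟩ := H28.FaceSquare.lifts_of_affine aU a g hg hQ hA T' ((attr a N).map t.op φ) ψU hface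
  exact ⟨T', t, χ, inferInstance, inferInstance, Subtype.ext hχ⟩

omit [AddGroup.FG M] in
theorem exists_of_cover [IsSeparated X.hom] (L : AddSubmonoid M) {T T' : Over S} (x : T ⟶ X) (t : T' ⟶ T)
    [Etale t.left] [Surjective t.left] (ψ : (attr a L).obj (op T'))
    (hψ : (attrToX a L).app (op T') ψ = t ≫ x) :
    ∃ ψ₀ : (attr a L).obj (op T), (attrToX a L).app (op T) ψ₀ = x := by
  have hs : Presieve.IsSheaf (QuotSh.J Scheme.fppfPrecoverage S) (attr a L) :=
    (isSheaf_iff_isSheaf_of_type _ _).1 (S18294.result S (AMonS S M) (AMonS S L) X (subAct S M L) a)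
  have hmem : Sieve.generate (Presieve.singleton t) ∈ (QuotSh.J Scheme.fppfPrecoverage S) T := by
    rw [GrothendieckTopology.mem_over_iff]
    refine GrothendieckTopology.superset_covering _ ?_
      (Precoverage.generate_mem_toGrothendieck (Scheme.Hom.singleton_mem_fppfPrecoverage t.left))
    rintro V h ⟨W, p, _, ⟨⟩, rfl⟩
    rw [Sieve.overEquiv_iff]
    exact ⟨T', Over.homMk p (by
      show p ≫ T'.hom = (p ≫ t.left) ≫ T.hom
      rw [Category.assoc, Over.w t]), t, ⟨⟩, Over.OverMorphism.ext rfl⟩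
  have hsf : Presieve.IsSheafFor (attr a L) (Presieve.singleton t) :=
    (Presieve.isSheafFor_iff_generate _).2 (hs _ hmem)
  have hnat : ∀ {W W' : Over S} (p : W' ⟶ W) (s : (attr a L).obj (op W)),
      (attrToX a L).app (op W') ((attr a L).map p.op s) = p ≫ (attrToX a L).app (op W) s := by
    intro W W' p s
    show lift (toUnit W' ≫ η[AMonS S L]) (𝟙 W') ≫ (AMonS S L ◁ p) ≫ s.1 =
      p ≫ lift (toUnit W ≫ η[AMonS S L]) (𝟙 W) ≫ s.1
    rw [lift_whiskerLeft_assoc, Category.id_comp, comp_lift_assoc, Category.comp_id, ← Category.assoc p (toUnit W),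
      comp_toUnit]
  obtain ⟨ψ₀, hψ₀, -⟩ := (Presieve.isSheafFor_singleton).1 hsf ψ (fun {W} p q hpq => by
    apply MagnetLib.attrToX_injective a L W
    show (attrToX a L).app (op W) _ = (attrToX a L).app (op W) _
    rw [hnat, hnat, hψ, ← Category.assoc, hpq, Category.assoc])
  refine ⟨ψ₀, ?_⟩
  haveI : Epi t := by
    haveI : Flat t.left := inferInstance
    refine ⟨fun {W} p q h => ?_⟩
    exact ((GrothendieckTopology.Subcanonical.isSheaf_of_isRepresentable (J := QuotSh.J Scheme.fppfPrecoverage S)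
      (yoneda.obj W)) _ hmem).isSeparatedFor.ext fun V r ⟨_, m, _, ⟨⟩, hm⟩ => by
        subst hm
        show (m ≫ t) ≫ p = (m ≫ t) ≫ q
        rw [Category.assoc, Category.assoc, h]
  rw [← cancel_epi t, ← hψ, ← hnat, hψ₀]

end Groth.Agent.MagnetLib.AtlasLift
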