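import Groth.Agent.MagnetLib.AtlasLift
import Groth.Agent.H28.MagnetRep
import Groth.Agent.H28.FixedDesc
import Groth.Agent.AlgSpDec.AffineLocal
import Groth.Agent.AlgSpDec.AffineRep
import Groth.Agent.EtFound.Descent

/-! Representability of attractors of schemes with an affine FPR atlas. -/

set_option autoImplicit false
set_option linter.style.haveILetI false
set_option backward.isDefEq.respectTransparency false
set_option backward.isDefEq.respectTransparency.types false

universe u

open CategoryTheory CategoryTheory.Limits MonoidalCategory CartesianMonoidalCategory MonObj AlgebraicGeometry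
open Opposite Magnet

namespace Groth.Agent.MagnetLib.AtlasRep

variable {S : Scheme.{u}}

section Sp

open AlgSp

variable {F : (Over S)ᵒᵖ ⥤ Type u}

/-- A set-valued fppf sheaf as a sheaf one universe up. -/
def toSp (hF : Presheaf.IsSheaf (QuotSh.J Scheme.fppfPrecoverage S) F) : Sp S :=
  ⟨F ⋙ uliftFunctor.{u + 1}, (isSheaf_iff_isSheaf_of_type _ _).2
    ((Presieve.isSheaf_comp_uliftFunctor_iff _).2 ((isSheaf_iff_isSheaf_of_type _ _).1 hF))⟩

theorem exists_representableBy_affine (hF : Presheaf.IsSheaf (QuotSh.J Scheme.fppfPrecoverage S) F)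
    {G : (Over S)ᵒᵖ ⥤ Type u} {Zs : Over S} (es : G.RepresentableBy Zs) (π : F ⟶ G) {V W' : Over S}
    (eW : ∀ T : Over S, (T ⟶ W') → F.obj (op T))
    (heW : ∀ {T T' : Over S} (t : T' ⟶ T) (w : T ⟶ W'), eW T' (t ≫ w) = F.map t.op (eW T w))
    (i : W' ⟶ V) [IsAffineHom i.left] (p : V ⟶ Zs) [Etale p.left] [Surjective p.left]
    (hcomm : ∀ (T : Over S) (w : T ⟶ W'), π.app (op T) (eW T w) = es.homEquiv ((w ≫ i) ≫ p))
    (hpb : ∀ (T : Over S) (φ : F.obj (op T)) (v : T ⟶ V), π.app (op T) φ = es.homEquiv (v ≫ p) →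
      ∃! w : T ⟶ W', eW T w = φ ∧ w ≫ i = v) :
    ∃ (Z : Over S) (e : F.RepresentableBy Z) (j : Z ⟶ Zs), IsAffineHom j.left ∧
      ∀ (T : Over S) (z : T ⟶ Z), π.app (op T) (e.homEquiv z) = es.homEquiv (z ≫ j) := by
  let F' : Sp S := toSp hF
  let f : F' ⟶ (yon S).obj Zs := ⟨{
    app := fun T => TypeCat.ofHom fun φ => ULift.up (es.homEquiv.symm (π.app T φ.down))
    naturality := fun T T' t => by
      refine ConcreteCategory.hom_ext _ _ fun φ => ?_
      refine ULift.ext _ _ ?_
      show es.homEquiv.symm (π.app T' (F.map t φ.down)) = t.unop ≫ es.homEquiv.symm (π.app T φ.down)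
      apply es.homEquiv.injective
      rw [Equiv.apply_symm_apply, es.homEquiv_comp, Equiv.apply_symm_apply]
      exact ConcreteCategory.congr_hom (π.naturality t) φ.down }⟩
  let fst : (yon S).obj W' ⟶ F' := ⟨{
    app := fun T => TypeCat.ofHom fun w => ULift.up (eW (unop T) w.down)
    naturality := fun T T' t => by
      refine ConcreteCategory.hom_ext _ _ fun w => ?_
      exact ULift.ext _ _ (heW t.unop w.down) }⟩
  have sq : IsPullback fst ((yon S).map i) f ((yon S).map p) := by
    refine IsPullback.of_map (sheafToPresheaf _ _) ?_ ?_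
    · refine Sheaf.hom_ext ?_
      refine NatTrans.ext (funext fun T => ?_)
      refine ConcreteCategory.hom_ext _ _ fun w => ?_
      refine ULift.ext _ _ ?_
      show es.homEquiv.symm (π.app T (eW (unop T) w.down)) = (w.down ≫ i) ≫ p
      rw [Equiv.symm_apply_eq]
      exact hcomm (unop T) w.down
    · refine IsPullback.of_forall_isPullback_app fun T => ?_
      rw [Types.isPullback_iff]
      refine ⟨?_, fun w w' h => ?_, fun φ v h => ?_⟩
      · refine ConcreteCategory.hom_ext _ _ fun w => ?_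
        refine ULift.ext _ _ ?_
        show es.homEquiv.symm (π.app T (eW (unop T) w.down)) = (w.down ≫ i) ≫ p
        rw [Equiv.symm_apply_eq]
        exact hcomm (unop T) w.down
      · refine ULift.ext _ _ ?_
        obtain ⟨w₀, -, huniq⟩ := hpb (unop T) (eW (unop T) w.down) (w.down ≫ i) (hcomm _ _)
        exact (huniq w.down ⟨rfl, rfl⟩).trans
          (huniq w'.down ⟨(congrArg ULift.down h.1).symm, (congrArg ULift.down h.2).symm⟩).symm
      · have h' : es.homEquiv.symm (π.app T φ.down) = v.down ≫ p := congrArg ULift.down h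
        obtain ⟨w, ⟨h1, h2⟩, -⟩ := hpb (unop T) φ.down v.down ((Equiv.symm_apply_eq _).1 h')
        exact ⟨ULift.up w, ULift.ext _ _ h1, ULift.ext _ _ h2⟩
  haveI := EtFound.fpqc_isAffineHom.{u}
  have hrep : RepWith @IsAffineHom f := AlgSpDec.repWith_of_etale_cover (fun _ _ _ h => h)
    ((AlgSp.repWith_yon_map_iff _ _).2 (inferInstanceAs (Etale p.left)))
    ((AlgSp.repWith_yon_map_iff _ _).2 (inferInstanceAs (Surjective p.left))) sq
    ((AlgSp.repWith_yon_map_iff _ _).2 (inferInstanceAs (IsAffineHom i.left)))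
  obtain ⟨hr, hP⟩ := hrep
  let g : (yon S).obj Zs ⟶ (yon S).obj Zs := 𝟙 _
  obtain ⟨Z, j, fst₀, sq₀⟩ := hr g
  haveI : IsIso fst₀ := sq₀.isIso_fst_of_isIso
  let e₀ : ∀ T : Over S, (T ⟶ Z) ≃ F.obj (op T) := fun T =>
    Equiv.ulift.symm.trans ((Iso.toEquiv (((sheafToPresheaf _ _).mapIso (asIso fst₀)).app (op T))).trans Equiv.ulift)
  refine ⟨Z, { homEquiv := fun {T} => e₀ T, homEquiv_comp := fun {T T'} t z => ?_ }, j, hP g fst₀ j sq₀, fun T z => ?_⟩
  · exact congrArg ULift.down (ConcreteCategory.congr_hom (fst₀.hom.naturality t.op) (ULift.up.{u + 1} z : ULift.{u + 1} (_ ⟶ Z)))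
  · have h0 : (fst₀ ≫ f).hom.app (op T) = ((yon S).map j ≫ g).hom.app (op T) := by rw [sq₀.w]
    have h := congrArg ULift.down (ConcreteCategory.congr_hom h0
      (show ToType (((yon S).obj Z).obj.obj (op T)) from ULift.up.{u + 1} z))
    refine (Equiv.symm_apply_eq _).1 ?_
    exact h

end Sp

variable {M : Type} [AddCommGroup M] [AddGroup.FG M] {U X : Over S}
  (aU : MonAct (AMonS S M) U) (a : MonAct (AMonS S M) X) (g : U ⟶ X) (hg : MonAct.IsEquivariant aU a g)

include hg in
theorem exists_rep [IsAffineHom U.hom] [Etale g.left] [Surjective g.left] (N : AddSubmonoid M)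
    (Z : AddSubgroup M) (Q : AddSubmonoid M) (hQZ : Z.toAddSubmonoid = Q) (hQ : IsFace N Q)
    (hgZ : MonAct.IsEquivariant (aU.restrict (AMonS.map S (QuotientAddGroup.mk' Z)))
      (a.restrict (AMonS.map S (QuotientAddGroup.mk' Z))) g)
    (hfpr : IsPullback (MonAct.fixedPsh.map g hgZ)
      (MonAct.fixedPshι (aU.restrict (AMonS.map S (QuotientAddGroup.mk' Z))))
      (MonAct.fixedPshι (a.restrict (AMonS.map S (QuotientAddGroup.mk' Z)))) (yoneda.map g))
    (hA : ∀ (W : Over S) [IsAffine W.left], H28.FaceSquare.Lifts aU a g hQ W (N := N)) :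
    ∃ (ZN Zs : Over S) (eN : (attr a N).RepresentableBy ZN) (es : (attr a Q).RepresentableBy Zs) (j : ZN ⟶ Zs),
      IsAffineHom j.left ∧ ∀ (T : Over S) (z : T ⟶ ZN),
        es.homEquiv (z ≫ j) = (attrFace a hQ).app (op T) (eN.homEquiv z) := by
  subst hQZ
  obtain ⟨WN, iN, eUN, hiN, -⟩ := H28.MagnetAff.exists_representableBy N aU
  obtain ⟨WU, iU, eUs, hiU, heUs⟩ := H28.MagnetAff.exists_representableBy Z.toAddSubmonoid aU
  obtain ⟨εU, hεU⟩ := H28.MagnetFixed.exists_iso Z aU
  obtain ⟨εX, hεX⟩ := H28.MagnetFixed.exists_iso Z a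
  obtain ⟨Zs, iX, eX, hiX, heX⟩ := H28.FixedDesc.exists_representableBy _ _ g hgZ hfpr
    ⟨WU, iU, eUs.ofIso εU, hiU, fun T w => by
      rw [← heUs T w]
      exact ConcreteCategory.congr_hom (NatTrans.congr_app hεU (op T)) (eUs.homEquiv w)⟩
  let es : (attr a Z.toAddSubmonoid).RepresentableBy Zs := eX.ofIso εX.symm
  have hes : ∀ (T : Over S) (v : T ⟶ Zs), (attrToX a Z.toAddSubmonoid).app (op T) (es.homEquiv v) = v ≫ iX := by
    intro T v
    rw [← heX T v]
    show (attrToX a Z.toAddSubmonoid).app (op T) (εX.inv.app (op T) (eX.homEquiv v)) = _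
    rw [← hεX, NatTrans.comp_app, CategoryTheory.comp_apply, Iso.inv_hom_id_app_apply]
  let postS := MonAct.eqvHom.postcomp (subAct S M Z.toAddSubmonoid) g hg
  let p : WU ⟶ Zs := es.homEquiv.symm (postS.app (op WU) (eUs.homEquiv (𝟙 WU)))
  have hp : ∀ (T : Over S) (v : T ⟶ WU), es.homEquiv (v ≫ p) = postS.app (op T) (eUs.homEquiv v) := by
    intro T v
    rw [es.homEquiv_comp, Equiv.apply_symm_apply, eUs.homEquiv_eq v]
    exact Subtype.ext (Category.assoc _ _ _).symm
  have hpi : p ≫ iX = iU ≫ g := by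
    have h := hes WU p
    rw [Equiv.apply_symm_apply, AtlasLift.attrToX_postcomp] at h
    rw [← h, heUs, Category.id_comp]
  haveI := hiU
  haveI := hiX
  have sqp : IsPullback p iU iX g := by
    haveI : Mono iU := (Over.forget S).mono_of_mono_map (inferInstanceAs (Mono iU.left))
    refine IsPullback.of_map yoneda hpi (IsPullback.of_forall_isPullback_app fun T => ?_)
    rw [Types.isPullback_iff]
    refine ⟨ConcreteCategory.hom_ext _ _ fun v => ?_, fun v v' h => (cancel_mono iU).1 h.2, fun y u h => ?_⟩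
    · show (v ≫ p) ≫ iX = (v ≫ iU) ≫ g
      rw [Category.assoc, hpi, Category.assoc]
    · obtain ⟨xU, -, hxU⟩ := ((Types.isPullback_iff _ _ _ _).1 (hfpr.app T)).2.2 (eX.homEquiv y) u
        ((heX (unop T) y).trans h)
      obtain ⟨ψ, hψ⟩ := H28.MagnetFixed.exists_evalAt_eq Z aU xU
      have hv : eUs.homEquiv.symm ψ ≫ iU = u := by
        rw [← heUs, Equiv.apply_symm_apply, hψ]
        exact hxU
      refine ⟨eUs.homEquiv.symm ψ, ?_, hv⟩
      show eUs.homEquiv.symm ψ ≫ p = y
      haveI : Mono iX := (Over.forget S).mono_of_mono_map (inferInstanceAs (Mono iX.left))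
      rw [← cancel_mono iX, Category.assoc, hpi, ← Category.assoc, hv]
      exact h.symm
  haveI : Etale p.left := MorphismProperty.of_isPullback (sqp.map (Over.forget S)).flip (inferInstanceAs (Etale g.left))
  haveI : Surjective p.left :=
    MorphismProperty.of_isPullback (sqp.map (Over.forget S)).flip (inferInstanceAs (Surjective g.left))
  let jU : WN ⟶ WU := eUs.homEquiv.symm ((attrFace aU hQ).app (op WN) (eUN.homEquiv (𝟙 WN)))
  have hjU : ∀ (T : Over S) (w : T ⟶ WN), eUs.homEquiv (w ≫ jU) = (attrFace aU hQ).app (op T) (eUN.homEquiv w) := by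
    intro T w
    rw [eUs.homEquiv_comp, Equiv.apply_symm_apply, eUN.homEquiv_eq w]
    refine Subtype.ext ?_
    show (AMonS S Z.toAddSubmonoid ◁ w) ≫ (AMonS.faceMap S hQ ▷ WN) ≫ (eUN.homEquiv (𝟙 WN)).1 =
      (AMonS.faceMap S hQ ▷ T) ≫ (AMonS S N ◁ w) ≫ (eUN.homEquiv (𝟙 WN)).1
    rw [whisker_exchange_assoc]
  haveI := hiN
  haveI : IsAffineHom jU.left := by
    haveI : IsAffineHom (jU.left ≫ WU.hom) := by rw [Over.w jU, ← Over.w iN]; infer_instance
    haveI : IsAffineHom WU.hom := by rw [← Over.w iU]; infer_instance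
    exact MorphismProperty.of_postcomp @IsAffineHom (W' := @IsSeparated) jU.left WU.hom inferInstance ‹_›
  let postN := MonAct.eqvHom.postcomp (subAct S M N) g hg
  have hsheaf := S18294.result S (AMonS S M) (AMonS S N) X (subAct S M N) a
  obtain ⟨ZN, eN, j, hj, hjc⟩ := exists_representableBy_affine hsheaf es (attrFace a hQ)
    (fun T w => postN.app (op T) (eUN.homEquiv w))
    (fun {T T'} t w => by
      rw [eUN.homEquiv_comp]
      exact Subtype.ext (Category.assoc _ _ _))
    jU p (fun T w => by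
      rw [hp, hjU]
      refine Subtype.ext ?_
      exact (Category.assoc _ _ _).symm)
    (fun T φ v hφv => by
      rw [hp] at hφv
      obtain ⟨χ, ⟨h1, h2⟩, huniq⟩ := H28.FaceSquare.lifts_of_affine aU a g hg hQ hA T φ (eUs.homEquiv v)
        (congrArg Subtype.val hφv)
      refine ⟨eUN.homEquiv.symm χ, ⟨?_, ?_⟩, fun w hw => ?_⟩
      · show postN.app (op T) (eUN.homEquiv (eUN.homEquiv.symm χ)) = φ
        rw [Equiv.apply_symm_apply]
        exact Subtype.ext h1
      · apply eUs.homEquiv.injective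
        rw [hjU, Equiv.apply_symm_apply]
        exact Subtype.ext h2
      · rw [Equiv.eq_symm_apply]
        refine huniq _ ⟨congrArg Subtype.val hw.1, ?_⟩
        rw [← hw.2, hjU]
        rfl)
  exact ⟨ZN, Zs, eN, es, j, hj, fun T z => (hjc T z).symm⟩

end Groth.Agent.MagnetLib.AtlasRep
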