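import Groth.Agent.GSGlue.Main
import Groth.Agent.AssLib.FlatField
import Mathlib

/-!
The locus where a family of maps extends along a schematically dominant map of affine schemes over a field.
-/

set_option autoImplicit false
set_option linter.style.haveILetI false

universe u

open CategoryTheory CategoryTheory.Limits MonoidalCategory CartesianMonoidalCategory AlgebraicGeometry
open TensorProduct Groth.Agent.GSGlue

namespace Groth.Agent.MagnetLib

variable {k : Type u} [Field k]

/-- The elements of `B` cutting out the locus where `θ` lands in the subalgebra. -/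
noncomputable def extendIdeal {R P B : Type u} [CommRing R] [Algebra k R] [CommRing P] [Algebra k P] [CommRing B]
    [Algebra k B] (ι : R →ₐ[k] P) (θ : B →ₐ[k] P ⊗[k] B) : Ideal B :=
  Ideal.span {x | ∃ (b : B) (j : Module.Free.ChooseBasisIndex k (P ⧸ LinearMap.range ι.toLinearMap)),
    x = TensorProduct.equivFinsuppOfBasisLeft (Module.Free.chooseBasis k (P ⧸ LinearMap.range ι.toLinearMap))
      (LinearMap.rTensor B (LinearMap.range ι.toLinearMap).mkQ (θ b)) j}

theorem extendIdeal_le_ker_iff {R P B C : Type u} [CommRing R] [Algebra k R] [CommRing P] [Algebra k P] [CommRing B]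
    [Algebra k B] [CommRing C] [Algebra k C] (ι : R →ₐ[k] P) (hι : Function.Injective ι) (θ : B →ₐ[k] P ⊗[k] B)
    (φ : B →ₐ[k] C) : extendIdeal ι θ ≤ RingHom.ker φ ↔
      ∃ g : B →ₐ[k] R ⊗[k] C,
        (Algebra.TensorProduct.map ι (AlgHom.id k C)).comp g = (Algebra.TensorProduct.map (AlgHom.id k P) φ).comp θ := by
  set N := LinearMap.range ι.toLinearMap
  set bs := Module.Free.chooseBasis k (P ⧸ N)
  set w : B → P ⊗[k] C := fun b => Algebra.TensorProduct.map (AlgHom.id k P) φ (θ b)
  have hex : Function.Exact (LinearMap.rTensor C ι.toLinearMap) (LinearMap.rTensor C N.mkQ) :=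
    rTensor_exact C (LinearMap.exact_map_mkQ_range ι.toLinearMap) (Submodule.mkQ_surjective N)
  have hmap : ∀ x : P ⊗[k] B, LinearMap.rTensor C N.mkQ (Algebra.TensorProduct.map (AlgHom.id k P) φ x) =
      LinearMap.lTensor (P ⧸ N) φ.toLinearMap (LinearMap.rTensor B N.mkQ x) := fun x => by
    induction x with
    | zero => simp
    | tmul p b => simp
    | add x y hx hy => simp [map_add, hx, hy]
  have hcoord : ∀ (z : (P ⧸ N) ⊗[k] B) j,
      TensorProduct.equivFinsuppOfBasisLeft bs (LinearMap.lTensor (P ⧸ N) φ.toLinearMap z) j =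
        φ (TensorProduct.equivFinsuppOfBasisLeft bs z j) := fun z j => by
    induction z with
    | zero => simp
    | tmul p b => simp [TensorProduct.equivFinsuppOfBasisLeft_apply_tmul_apply]
    | add x y hx hy => simp [map_add, hx, hy]
  have hker : extendIdeal ι θ ≤ RingHom.ker φ ↔ ∀ b, LinearMap.rTensor C N.mkQ (w b) = 0 := by
    rw [extendIdeal, Ideal.span_le]
    constructor
    · intro h b
      apply (TensorProduct.equivFinsuppOfBasisLeft bs).injective
      rw [map_zero, hmap]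
      ext j
      rw [hcoord, Finsupp.zero_apply]
      exact h ⟨b, j, rfl⟩
    · rintro h _ ⟨b, j, rfl⟩
      show φ _ = 0
      rw [← hcoord, ← hmap, h b]
      simp
  have hinj : Function.Injective (Algebra.TensorProduct.map ι (AlgHom.id k C)) := by
    have h := Module.Flat.rTensor_preserves_injective_linearMap (M := C) ι.toLinearMap hι
    intro a b hab
    exact h hab
  rw [hker]
  constructor
  · intro h
    choose g hg using fun b => (hex (w b)).1 (h b)
    let e := AlgEquiv.ofInjective (Algebra.TensorProduct.map ι (AlgHom.id k C)) hinj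
    refine ⟨e.symm.toAlgHom.comp (AlgHom.codRestrict
      ((Algebra.TensorProduct.map (AlgHom.id k P) φ).comp θ) _ fun b => ⟨g b, hg b⟩), AlgHom.ext fun b => ?_⟩
    exact congrArg Subtype.val (e.apply_symm_apply _)
  · rintro ⟨g, hg⟩ b
    refine (hex (w b)).2 ⟨g b, ?_⟩
    exact DFunLike.congr_fun hg b

/-- An affine scheme over the field is a spectrum. -/
theorem exists_iso_sp (T : Over (Spec (CommRingCat.of k))) [IsAffine T.left] :
    ∃ (B : Type u) (_ : CommRing B) (_ : Algebra k B), Nonempty (T ≅ Sp k B) := by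
  let φ := Spec.preimage (T.left.isoSpec.inv ≫ T.hom)
  letI : Algebra k Γ(T.left, ⊤) := φ.hom.toAlgebra
  refine ⟨Γ(T.left, ⊤), inferInstance, inferInstance, ⟨Over.isoMk T.left.isoSpec ?_⟩⟩
  show T.left.isoSpec.hom ≫ Spec.map φ = T.hom
  rw [Spec.map_preimage, Iso.hom_inv_id_assoc]

@[reassoc]
theorem prodIso_natural_left {R R' C : Type u} [CommRing R] [Algebra k R] [CommRing R'] [Algebra k R'] [CommRing C]
    [Algebra k C] (f : R →ₐ[k] R') :
    spMap (Algebra.TensorProduct.map f (AlgHom.id k C)) ≫ (prodIso R C).inv =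
      (prodIso R' C).inv ≫ (spMap f ▷ Sp k C) := by
  apply CartesianMonoidalCategory.hom_ext
  · rw [Category.assoc, Category.assoc, whiskerRight_fst, prodIso_inv_fst, ← Category.assoc, prodIso_inv_fst,
      ← spMap_comp, ← spMap_comp]
    congr 1
  · rw [Category.assoc, Category.assoc, whiskerRight_snd, prodIso_inv_snd, prodIso_inv_snd, ← spMap_comp]
    congr 1
    ext a
    simp

variable {M G X : Over (Spec (CommRingCat.of k))}

/-- A morphism over an affine base locus extends iff it kills the ideal. -/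
theorem exists_closed_extend_sp {R P B : Type u} [CommRing R] [Algebra k R] [CommRing P] [Algebra k P] [CommRing B]
    [Algebra k B] (ι : R →ₐ[k] P) (hι : Function.Injective ι) (ψ : Sp k P ⊗ Sp k B ⟶ Sp k B) :
    ∃ (Z : Over (Spec (CommRingCat.of k))) (j : Z ⟶ Sp k B), IsClosedImmersion j.left ∧
      (∃ φ₀ : Sp k R ⊗ Z ⟶ Sp k B, (spMap ι ▷ Z) ≫ φ₀ = (Sp k P ◁ j) ≫ ψ) ∧
      ∀ (C : Type u) (_ : CommRing C) (_ : Algebra k C) (x : Sp k C ⟶ Sp k B),
        (∃ φ : Sp k R ⊗ Sp k C ⟶ Sp k B, (spMap ι ▷ Sp k C) ≫ φ = (Sp k P ◁ x) ≫ ψ) → ∃ z, z ≫ j = x := by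
  obtain ⟨θ, hθ⟩ := exists_spMap ((prodIso P B).inv ≫ ψ)
  let J := extendIdeal ι θ
  have key : ∀ (C : Type u) [CommRing C] [Algebra k C] (φ : B →ₐ[k] C),
      (∃ e : Sp k R ⊗ Sp k C ⟶ Sp k B, (spMap ι ▷ Sp k C) ≫ e = (Sp k P ◁ spMap φ) ≫ ψ) ↔ J ≤ RingHom.ker φ := by
    intro C _ _ φ
    rw [extendIdeal_le_ker_iff ι hι θ φ]
    constructor
    · rintro ⟨e, he⟩
      obtain ⟨g, hg⟩ := exists_spMap ((prodIso R C).inv ≫ e)
      refine ⟨g, spMap_injective ?_⟩
      rw [spMap_comp, spMap_comp, hg, hθ, prodIso_natural_left_assoc, prodIso_natural_assoc, he]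
    · rintro ⟨g, hg⟩
      refine ⟨(prodIso R C).hom ≫ spMap g, ?_⟩
      rw [← cancel_epi (prodIso P C).inv, ← prodIso_natural_left_assoc, ← prodIso_natural_assoc, Iso.inv_hom_id_assoc,
        ← hθ, ← spMap_comp, ← spMap_comp, hg]
  refine ⟨Sp k (B ⧸ J), spMap (Ideal.Quotient.mkₐ k J), ?_, (key _ _).2 (Ideal.Quotient.mkₐ_ker k J).ge, ?_⟩
  · exact IsClosedImmersion.spec_of_surjective _ Ideal.Quotient.mk_surjective
  · intro C _ _ x hx
    obtain ⟨φ, rfl⟩ := exists_spMap x
    refine ⟨spMap (Ideal.Quotient.liftₐ J φ fun a ha => (key C φ).1 hx ha), ?_⟩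
    rw [← spMap_comp]
    congr 1

set_option backward.isDefEq.respectTransparency false in
/-- The locus where `(G ◁ x) ≫ ψ` extends along `i` is a closed subscheme. -/
theorem exists_closed_extend [IsAffine M.left] [IsAffine G.left] [IsAffine X.left] (i : G ⟶ M)
    [IsSchemeTheoreticallyDominant i.left] (ψ : G ⊗ X ⟶ X) :
    ∃ (Z : Over (Spec (CommRingCat.of k))) (j : Z ⟶ X), IsClosedImmersion j.left ∧
      (∃ φ₀ : M ⊗ Z ⟶ X, (i ▷ Z) ≫ φ₀ = (G ◁ j) ≫ ψ) ∧
      ∀ (T : Over (Spec (CommRingCat.of k))) (x : T ⟶ X),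
        (∃ φ : M ⊗ T ⟶ X, (i ▷ T) ≫ φ = (G ◁ x) ≫ ψ) → ∃ z : T ⟶ Z, z ≫ j = x := by
  obtain ⟨R, _, _, ⟨eM⟩⟩ := exists_iso_sp M
  obtain ⟨P, _, _, ⟨eG⟩⟩ := exists_iso_sp G
  obtain ⟨B, _, _, ⟨eX⟩⟩ := exists_iso_sp X
  obtain ⟨ι, hι⟩ := exists_spMap (eG.inv ≫ i ≫ eM.hom)
  have hinj : Function.Injective ι := by
    haveI : IsIso eG.inv.left := (Over.forget _).map_isIso eG.inv
    haveI : IsIso eM.hom.left := (Over.forget _).map_isIso eM.hom
    haveI : IsSchemeTheoreticallyDominant (eG.inv ≫ i ≫ eM.hom).left := by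
      rw [Over.comp_left, Over.comp_left]; infer_instance
    rw [← hι] at this
    haveI : IsSchemeTheoreticallyDominant (Spec.map (CommRingCat.ofHom ι.toRingHom)) := this
    have h := Scheme.Hom.app_injective (Spec.map (CommRingCat.ofHom ι.toRingHom)) ⊤
    intro a b hab
    apply (Scheme.ΓSpecIso (CommRingCat.of R)).commRingCatIsoToRingEquiv.symm.injective
    apply h
    have hn := Scheme.ΓSpecIso_inv_naturality (CommRingCat.ofHom ι.toRingHom)
    exact (congr($hn a)).symm.trans ((congrArg (Scheme.ΓSpecIso (CommRingCat.of P)).inv hab).trans (congr($hn b)))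
  obtain ⟨Z, j, hj, ⟨φ₀, hφ₀⟩, huniv⟩ :=
    exists_closed_extend_sp ι hinj ((eG.inv ⊗ₘ eX.inv) ≫ ψ ≫ eX.hom)
  refine ⟨Z, j ≫ eX.inv, ?_, ⟨(eM.hom ▷ Z) ≫ φ₀ ≫ eX.inv, ?_⟩, fun T x hx => ?_⟩
  · haveI : IsIso eX.inv.left := (Over.forget _).map_isIso eX.inv
    rw [Over.comp_left]; infer_instance
  · have h := congrArg (fun f => (eG.hom ▷ Z) ≫ f ≫ eX.inv) hφ₀
    simp only [hι, tensorHom_def', Category.assoc, comp_whiskerRight, hom_inv_whiskerRight_assoc,
      Iso.hom_inv_id, Category.comp_id] at h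
    rw [h, ← whisker_exchange_assoc, ← whisker_exchange_assoc, hom_inv_whiskerRight_assoc,
      ← MonoidalCategory.whiskerLeft_comp_assoc]
  · obtain ⟨φ, hφ⟩ := hx
    haveI : Mono j := (Over.forget _).mono_of_mono_map (inferInstanceAs (Mono j.left))
    let 𝒰 := T.left.affineCover
    have hloc : ∀ a, ∃ z : 𝒰.X a ⟶ Z.left, z ≫ Z.hom = 𝒰.f a ≫ T.hom ∧
        z ≫ (j ≫ eX.inv).left = 𝒰.f a ≫ x.left := by
      intro a
      let U : Over (Spec (CommRingCat.of k)) := Over.mk (𝒰.f a ≫ T.hom)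
      let u : U ⟶ T := Over.homMk (𝒰.f a) rfl
      haveI : IsAffine U.left := inferInstanceAs (IsAffine (𝒰.X a))
      obtain ⟨C, _, _, ⟨eU⟩⟩ := exists_iso_sp U
      obtain ⟨z, hz⟩ := huniv C _ _ (eU.inv ≫ u ≫ x ≫ eX.hom) ⟨(eM.inv ⊗ₘ (eU.inv ≫ u)) ≫ φ ≫ eX.hom, by
        rw [hι]
        simp only [tensorHom_def', Category.assoc, MonoidalCategory.whiskerLeft_comp, comp_whiskerRight]
        simp only [whisker_exchange_assoc, hom_inv_whiskerRight_assoc, whiskerLeft_hom_inv_assoc]
        rw [← whisker_exchange_assoc i, ← whisker_exchange_assoc i, reassoc_of% hφ]⟩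
      refine ⟨(eU.hom ≫ z).left, Over.w _, ?_⟩
      have h : (eU.hom ≫ z) ≫ j ≫ eX.inv = u ≫ x := by
        rw [Category.assoc, reassoc_of% hz]; simp
      exact congrArg CommaMorphism.left h
    choose z hz hzj using hloc
    haveI : Mono (j ≫ eX.inv).left := by
      haveI : IsIso eX.inv.left := (Over.forget _).map_isIso eX.inv
      rw [Over.comp_left]; infer_instance
    have hg : ∀ a b, pullback.fst (𝒰.f a) (𝒰.f b) ≫ z a = pullback.snd (𝒰.f a) (𝒰.f b) ≫ z b := fun a b => by
      rw [← cancel_mono (j ≫ eX.inv).left, Category.assoc, Category.assoc, hzj, hzj, pullback.condition_assoc]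
    refine ⟨Over.homMk (𝒰.glueMorphisms z hg) ?_, Over.OverMorphism.ext ?_⟩
    · refine 𝒰.hom_ext _ _ fun a => ?_
      rw [Scheme.Cover.ι_glueMorphisms_assoc, hz]
    · refine 𝒰.hom_ext _ _ fun a => ?_
      show 𝒰.f a ≫ 𝒰.glueMorphisms z hg ≫ (j ≫ eX.inv).left = _
      rw [Scheme.Cover.ι_glueMorphisms_assoc, hzj]

set_option backward.isDefEq.respectTransparency false in
/-- Base change of a schematically dominant map over a field. -/
theorem dominant_whiskerLeft {U V : Over (Spec (CommRingCat.of k))} (W : Over (Spec (CommRingCat.of k))) (f : U ⟶ V)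
    [IsSchemeTheoreticallyDominant f.left] [QuasiCompact f.left] :
    IsSchemeTheoreticallyDominant (W ◁ f).left ∧ QuasiCompact (W ◁ f).left := by
  haveI : Flat W.hom := AssLib.flat_over_field W.hom
  haveI : Flat (snd W V).left := inferInstanceAs (Flat (pullback.snd W.hom V.hom))
  have hp : IsPullback (snd W U).left (W ◁ f).left f.left (snd W V).left := by
    refine IsPullback.of_bot ?_ (congrArg CommaMorphism.left (whiskerLeft_snd W f)).symm
      (IsPullback.of_hasPullback W.hom V.hom).flip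
    rw [show (W ◁ f).left ≫ pullback.fst W.hom V.hom = (fst W U).left from
      congrArg CommaMorphism.left (whiskerLeft_fst W f), Over.w f]
    exact (IsPullback.of_hasPullback W.hom U.hom).flip
  exact ⟨IsSchemeTheoreticallyDominant.of_isPullback hp,
    MorphismProperty.of_isPullback (P := @QuasiCompact) hp inferInstance⟩

/-- Maps to an affine scheme are determined after a schematically dominant map. -/
theorem hom_ext_dominant {U V : Over (Spec (CommRingCat.of k))} [IsAffine X.left] (f : U ⟶ V)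
    [IsSchemeTheoreticallyDominant f.left] [QuasiCompact f.left] {a b : V ⟶ X} (h : f ≫ a = f ≫ b) : a = b := by
  refine Over.OverMorphism.ext (ext_of_isAffine ?_)
  ext s
  apply Scheme.Hom.app_injective f.left ⊤
  have h' := congrArg (fun g : U ⟶ X => g.left.appTop s) h
  rw [Over.comp_left, Over.comp_left, Scheme.Hom.comp_appTop, Scheme.Hom.comp_appTop] at h'
  exact h'

end Groth.Agent.MagnetLib
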