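import Groth.Prelude.Def_Magnet4
import Mathlib.LinearAlgebra.Quotient.Basic
import Mathlib.RingTheory.Localization.BaseChange
import Mathlib.LinearAlgebra.Dual.Lemmas
import Mathlib.Algebra.Order.BigOperators.Group.Finset
import Mathlib.GroupTheory.Finiteness
import Mathlib.RingTheory.Localization.FractionRing
import Mathlib.Tactic.Ring

/-! A face of a finitely generated monoid in an abelian group is cut out by a nonnegative linear form. -/

set_option linter.style.haveILetI false

universe v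

open TensorProduct

namespace Groth.Agent.MagnetLib.FacePos

/-- Gordan's alternative over `ℚ`. -/
theorem gordan : ∀ (n : ℕ) {V : Type v} [AddCommGroup V] [Module ℚ V] (w : Fin n → V),
    (∃ φ : V →ₗ[ℚ] ℚ, ∀ i, 0 < φ (w i)) ∨ ∃ c : Fin n → ℚ, (∀ i, 0 ≤ c i) ∧ c ≠ 0 ∧ ∑ i, c i • w i = 0 := by
  intro n
  induction n with
  | zero => exact fun w => Or.inl ⟨0, fun i => i.elim0⟩
  | succ n ih =>
    intro V _ _ w
    let v := w (Fin.last n)
    let s := fun i : Fin n => w i.castSucc
    by_cases hv : v = 0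
    · refine Or.inr ⟨Pi.single (Fin.last n) 1, fun i => ?_, ?_, ?_⟩
      · by_cases h : i = Fin.last n <;> simp [h]
      · simp
      · simp only [Fin.sum_univ_castSucc, Pi.single_eq_same, one_smul]
        rw [show w (Fin.last n) = 0 from hv, add_zero]
        exact Finset.sum_eq_zero fun i _ => by simp [(Fin.castSucc_lt_last i).ne]
    rcases ih (fun i => Submodule.Quotient.mk (p := ℚ ∙ v) (s i)) with ⟨φ, hφ⟩ | ⟨c, hc, hc0, hsum⟩
    · obtain ⟨ψ, hψ⟩ : ∃ ψ : V →ₗ[ℚ] ℚ, ψ v = 1 := by
        obtain ⟨ψ, hψ⟩ := Module.Projective.exists_dual_eq_one ℚ hv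
        exact ⟨ψ, hψ⟩
      let φ' := φ.comp (Submodule.mkQ (ℚ ∙ v))
      have hv' : φ' v = 0 := by simp [φ', (Submodule.Quotient.mk_eq_zero _).2 (Submodule.mem_span_singleton_self v)]
      have hφ' : ∀ i, 0 < φ' (s i) := hφ
      let B := ∑ i, |ψ (s i)| / φ' (s i)
      have hB : ∀ i, -ψ (s i) ≤ B * φ' (s i) := fun i => by
        have h1 : |ψ (s i)| / φ' (s i) ≤ B := Finset.single_le_sum
          (f := fun j => |ψ (s j)| / φ' (s j)) (fun j _ => div_nonneg (abs_nonneg _) (hφ' j).le) (Finset.mem_univ i)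
        rw [div_le_iff₀ (hφ' i)] at h1
        exact (neg_le_abs _).trans h1
      refine Or.inl ⟨(B + 1) • φ' + ψ, fun i => ?_⟩
      induction i using Fin.lastCases with
      | last =>
        show 0 < (B + 1) * φ' v + ψ v
        rw [hv', hψ]; norm_num
      | cast i =>
        show 0 < (B + 1) * φ' (s i) + ψ (s i)
        have := hB i
        have : (0 : ℚ) < φ' (s i) := hφ i
        linarith
    · obtain ⟨t, ht⟩ : ∃ t : ℚ, t • v = ∑ i, c i • s i := by
        refine Submodule.mem_span_singleton.1 ((Submodule.Quotient.mk_eq_zero (ℚ ∙ v)).1 ?_)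
        rw [← hsum, ← Submodule.mkQ_apply, map_sum]
        simp
      by_cases ht0 : t ≤ 0
      · refine Or.inr ⟨Fin.snoc c (-t), fun i => ?_, fun h => hc0 ?_, ?_⟩
        · induction i using Fin.lastCases with
          | last => simpa using ht0
          | cast i => simpa using hc i
        · funext i
          simpa using congrFun h i.castSucc
        · simp only [Fin.sum_univ_castSucc, Fin.snoc_castSucc, Fin.snoc_last]
          rw [← show t • v = ∑ i, c i • w i.castSucc from ht]
          simp [v]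
      · rcases ih s with ⟨φ, hφ⟩ | ⟨d, hd, hd0, hds⟩
        · refine Or.inl ⟨φ, fun i => ?_⟩
          induction i using Fin.lastCases with
          | last =>
            have h1 := congrArg φ ht
            simp only [map_smul, map_sum, smul_eq_mul] at h1
            obtain ⟨j, hj⟩ := Function.ne_iff.1 hc0
            have h2 : 0 < ∑ i, c i * φ (s i) := Finset.sum_pos' (fun i _ => mul_nonneg (hc i) (hφ i).le)
              ⟨j, Finset.mem_univ j, mul_pos ((hc j).lt_of_ne (Ne.symm hj)) (hφ j)⟩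
            rw [← h1] at h2
            exact pos_of_mul_pos_right h2 (not_le.1 ht0).le
          | cast i => exact hφ i
        · refine Or.inr ⟨Fin.snoc d 0, fun i => ?_, fun h => hd0 ?_, ?_⟩
          · induction i using Fin.lastCases with
            | last => simp
            | cast i => simpa using hd i
          · funext i
            simpa using congrFun h i.castSucc
          · simp only [Fin.sum_univ_castSucc, Fin.snoc_castSucc, Fin.snoc_last, zero_smul, add_zero]
            exact hds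

theorem natAbs_num {q : ℚ} (h : 0 ≤ q) : ((q.num.natAbs : ℕ) : ℚ) = q * q.den := by
  rw [Rat.mul_den_eq_num, ← Int.cast_natCast, Int.natAbs_of_nonneg (Rat.num_nonneg.2 h)]

variable {M : Type} [AddCommGroup M] {N F : AddSubmonoid M}

theorem exists_weight (hN : N.FG) (hF : Magnet.IsFace N F) :
    ∃ lam : N →+ ℕ, ∀ n : N, lam n = 0 ↔ (n : M) ∈ F := by
  classical
  obtain ⟨s, hs⟩ := hN
  have hsN : ∀ g ∈ s, g ∈ N := fun g hg => hs ▸ AddSubmonoid.subset_closure hg
  let f : M →ₗ[ℤ] ℚ ⊗[ℤ] M := TensorProduct.mk ℤ ℚ M 1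
  let P : Submodule ℚ (ℚ ⊗[ℤ] M) :=
    { carrier := {y | ∃ k : ℕ, 0 < k ∧ ∃ a ∈ F, ∃ b ∈ F, (k : ℚ) • y = f a - f b}
      zero_mem' := ⟨1, one_pos, 0, F.zero_mem, 0, F.zero_mem, by simp⟩
      add_mem' := by
        rintro x y ⟨k, hk, a, ha, b, hb, hx⟩ ⟨l, hl, a', ha', b', hb', hy⟩
        refine ⟨k * l, mul_pos hk hl, l • a + k • a', F.add_mem (F.nsmul_mem ha _) (F.nsmul_mem ha' _),
          l • b + k • b', F.add_mem (F.nsmul_mem hb _) (F.nsmul_mem hb' _), ?_⟩
        push_cast
        rw [smul_add, mul_comm (k : ℚ), mul_smul, hx, mul_comm (l : ℚ), mul_smul, hy]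
        simp only [map_add, map_nsmul, Nat.cast_smul_eq_nsmul ℚ, nsmul_sub]
        abel
      smul_mem' := by
        rintro q x ⟨k, hk, a, ha, b, hb, hx⟩
        have hd : (q.den : ℚ) ≠ 0 := Nat.cast_ne_zero.2 q.den_nz
        have key : ((k * q.den : ℕ) : ℚ) • q • x = (q.num : ℚ) • (f a - f b) := by
          rw [← hx, smul_smul, smul_smul]
          congr 1
          push_cast
          rw [mul_assoc, mul_comm (q.den : ℚ), Rat.mul_den_eq_num, mul_comm]
        rcases Int.eq_nat_or_neg q.num with ⟨n, hn | hn⟩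
        · refine ⟨k * q.den, mul_pos hk q.den_pos, n • a, F.nsmul_mem ha _, n • b, F.nsmul_mem hb _, ?_⟩
          rw [key, hn]
          simp [map_nsmul, Nat.cast_smul_eq_nsmul ℚ, nsmul_sub]
        · refine ⟨k * q.den, mul_pos hk q.den_pos, n • b, F.nsmul_mem hb _, n • a, F.nsmul_mem ha _, ?_⟩
          rw [key, hn]
          simp only [Int.cast_neg, Int.cast_natCast, neg_smul, map_nsmul, Nat.cast_smul_eq_nsmul ℚ, nsmul_sub]
          abel }
  let T : Finset M := s.filter (· ∉ F)
  let g : Fin T.card → M := fun i => (T.equivFin.symm i : M)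
  have hg : ∀ i, g i ∈ N ∧ g i ∉ F := fun i => by
    have := (T.equivFin.symm i).2
    simp only [T, Finset.mem_filter] at this
    exact ⟨hsN _ this.1, this.2⟩
  rcases gordan T.card (fun i => Submodule.Quotient.mk (p := P) (f (g i))) with ⟨φ, hφ⟩ | ⟨c, hc, hc0, hsum⟩
  · let ψ : M →+ ℚ := (φ.comp P.mkQ).toAddMonoidHom.comp f.toAddMonoidHom
    have hψF : ∀ m ∈ F, ψ m = 0 := fun m hm => by
      have : f m ∈ P := ⟨1, one_pos, m, hm, 0, F.zero_mem, by simp⟩
      show φ (Submodule.Quotient.mk (f m)) = 0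
      rw [(Submodule.Quotient.mk_eq_zero P).2 this, map_zero]
    have hψpos : ∀ m ∈ s, m ∉ F → 0 < ψ m := fun m hm hmF => by
      have := hφ (T.equivFin ⟨m, by simp [T, hm, hmF]⟩)
      simpa [g, ψ] using this
    let D : ℕ := ∏ m ∈ s, (ψ m).den
    have hD : 0 < D := Finset.prod_pos fun m _ => (ψ m).den_pos
    have hgen : ∀ m ∈ s, ∃ l : ℕ, (l : ℚ) = D * ψ m ∧ (l = 0 ↔ m ∈ F) := by
      intro m hm
      by_cases hmF : m ∈ F
      · exact ⟨0, by simp [hψF m hmF], iff_of_true rfl hmF⟩
      · have h0 := hψpos m hm hmF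
        obtain ⟨e, he⟩ : (ψ m).den ∣ D := Finset.dvd_prod_of_mem (fun x => (ψ x).den) hm
        refine ⟨e * (ψ m).num.natAbs, ?_, iff_of_false ?_ hmF⟩
        · rw [he]
          rw [Nat.cast_mul, natAbs_num h0.le]
          push_cast
          ring
        · refine Nat.mul_ne_zero ?_ (Int.natAbs_ne_zero.2 (Rat.num_pos.2 h0).ne')
          rintro rfl
          simp [he] at hD
    have hall : ∀ m ∈ N, ∃ l : ℕ, (l : ℚ) = D * ψ m ∧ (l = 0 ↔ m ∈ F) := by
      intro m hm
      rw [← hs] at hm
      induction hm using AddSubmonoid.closure_induction with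
      | mem m hm => exact hgen m hm
      | zero => exact ⟨0, by simp, iff_of_true rfl F.zero_mem⟩
      | add x y hx hy ihx ihy =>
        obtain ⟨a, ha, ha0⟩ := ihx
        obtain ⟨b, hb, hb0⟩ := ihy
        refine ⟨a + b, by push_cast; rw [ha, hb, map_add, mul_add], ?_⟩
        rw [hs] at hx hy
        rw [Nat.add_eq_zero_iff, ha0, hb0]
        exact ⟨fun h => F.add_mem h.1 h.2, fun h => hF.mem_of_add_mem x hx y hy h⟩
    choose l hl hl0 using fun n : N => hall n.1 n.2
    refine ⟨{ toFun := l, map_zero' := ?_, map_add' := fun a b => ?_ }, hl0⟩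
    · apply Nat.cast_injective (R := ℚ)
      rw [hl]
      simp
    · apply Nat.cast_injective (R := ℚ)
      push_cast
      rw [hl, hl, hl, AddSubmonoid.coe_add, map_add, mul_add]
  · exfalso
    obtain ⟨j, hj⟩ := Function.ne_iff.1 hc0
    let D : ℕ := ∏ i, (c i).den
    have hD : 0 < D := Finset.prod_pos fun i _ => (c i).den_pos
    have hint : ∀ i, ∃ e : ℕ, (e : ℚ) = D * c i := fun i => by
      obtain ⟨e, he⟩ : (c i).den ∣ D := Finset.dvd_prod_of_mem (fun i => (c i).den) (Finset.mem_univ i)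
      refine ⟨e * (c i).num.natAbs, ?_⟩
      rw [he]
      rw [Nat.cast_mul, natAbs_num (hc i)]
      push_cast
      ring
    choose e he using hint
    have hmem : f (∑ i, e i • g i) ∈ P := by
      have h1 : ∑ i, c i • f (g i) ∈ P := (Submodule.Quotient.mk_eq_zero P).1 (by
        rw [← hsum, ← Submodule.mkQ_apply, map_sum]
        simp)
      have h2 := P.smul_mem (D : ℚ) h1
      rw [Finset.smul_sum] at h2
      have e1 : f (∑ i, e i • g i) = ∑ i, (D : ℚ) • c i • f (g i) := by
        rw [map_sum]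
        exact Finset.sum_congr rfl fun i _ => by
          rw [map_nsmul, ← Nat.cast_smul_eq_nsmul ℚ, he, mul_smul]
      rw [e1]
      exact h2
    obtain ⟨k, hk, a, ha, b, hb, hkab⟩ := hmem
    have h0 : f (k • (∑ i, e i • g i) + b - a) = 0 := by
      rw [map_sub, map_add, map_nsmul, ← Nat.cast_smul_eq_nsmul ℚ, hkab]
      abel
    haveI : IsLocalizedModule (nonZeroDivisors ℤ) f :=
      (isLocalizedModule_iff_isBaseChange (nonZeroDivisors ℤ) ℚ f).mpr (TensorProduct.isBaseChange ℤ M ℚ)
    obtain ⟨u, hu⟩ := (IsLocalizedModule.eq_zero_iff (nonZeroDivisors ℤ) f).1 h0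
    let x := ∑ i, e i • g i
    have hxN : x ∈ N := AddSubmonoid.sum_mem N fun i _ => N.nsmul_mem (hg i).1 _
    obtain ⟨p, hp, hpx⟩ : ∃ p : ℕ, 0 < p ∧ p • (k • x + b) = p • a := by
      refine ⟨(u : ℤ).natAbs, Int.natAbs_pos.2 (nonZeroDivisors.coe_ne_zero u), ?_⟩
      have h1 : (u : ℤ) • (k • x + b - a) = 0 := hu
      rw [← sub_eq_zero, ← smul_sub]
      rcases Int.natAbs_eq (u : ℤ) with h | h <;> rw [h] at h1
      · simpa [natCast_zsmul] using h1
      · simpa [natCast_zsmul] using h1
    have hF1 : p • (k • x) ∈ F := by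
      have hsum : p • (k • x) + p • b ∈ F := by
        rw [← smul_add, hpx]
        exact F.nsmul_mem ha _
      exact (hF.mem_of_add_mem _ (N.nsmul_mem (N.nsmul_mem hxN _) _) _ (hF.le (F.nsmul_mem hb _)) hsum).1
    have hej : 0 < e j := by
      rw [← Nat.cast_pos (α := ℚ), he]
      exact mul_pos (Nat.cast_pos.2 hD) ((hc j).lt_of_ne (Ne.symm hj))
    have hpos : 0 < p * k * e j := by positivity
    obtain ⟨r, hr⟩ : ∃ r, p * k * e j = r + 1 := ⟨_, (Nat.sub_add_cancel hpos).symm⟩
    have hdec : p • (k • x) = g j + (r • g j + ∑ i ∈ Finset.univ.erase j, (p * k * e i) • g i) := by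
      rw [← add_assoc, ← succ_nsmul', ← hr, Finset.add_sum_erase _ (fun i => (p * k * e i) • g i) (Finset.mem_univ j)]
      simp [x, Finset.smul_sum, mul_smul]
    rw [hdec] at hF1
    exact (hg j).2 (hF.mem_of_add_mem _ (hg j).1 _
      (N.add_mem (N.nsmul_mem (hg j).1 _) (AddSubmonoid.sum_mem N fun i _ => N.nsmul_mem (hg i).1 _)) hF1).1

end Groth.Agent.MagnetLib.FacePos
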