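import Groth.Prelude.Def_Magnet4
import Groth.Agent.H23.CharPts
import Mathlib.RingTheory.Polynomial.Basic
import Mathlib.AlgebraicGeometry.Morphisms.Flat
import Mathlib.FieldTheory.RatFunc.AsPolynomial

/-! Equivariant maps `A¹ × Y ⟶ X` are determined by the nilpotent points of `A¹`. -/

universe u

open CategoryTheory CategoryTheory.Limits MonoidalCategory CartesianMonoidalCategory MonObj AlgebraicGeometry
open Opposite Magnet Polynomial
open Groth.Agent.H23

namespace Groth.Agent.MagnetLib.NilpExt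

abbrev N1 : AddSubmonoid ℤ := AddSubmonoid.multiples (1 : ℤ)

def gen : Multiplicative ↥N1 := Multiplicative.ofAdd ⟨1, AddSubmonoid.mem_multiples 1⟩

theorem eq_gen_pow (x : Multiplicative ↥N1) : ∃ n : ℕ, gen ^ n = x := by
  obtain ⟨n, hn⟩ := (Multiplicative.toAdd x).2
  refine ⟨n, Multiplicative.toAdd.injective (Subtype.ext ?_)⟩
  rw [toAdd_pow, AddSubmonoidClass.coe_nsmul]
  exact hn

variable {S : Scheme.{u}} {T T' : Over S}

noncomputable def co (m : T ⟶ AMonS S ↥N1) : Γ(T.left, ⊤) := CharPts.chi m gen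

theorem co_injective : Function.Injective (co : (T ⟶ AMonS S ↥N1) → _) := by
  intro x y h
  refine CharPts.chi_injective (MonoidHom.ext fun m => ?_)
  obtain ⟨n, rfl⟩ := eq_gen_pow m
  rw [map_pow, map_pow]
  exact congrArg (· ^ n) h

theorem exists_co_eq (c : Γ(T.left, ⊤)) : ∃ m : T ⟶ AMonS S ↥N1, co m = c := by
  obtain ⟨m, hm⟩ := CharPts.exists_chi_eq (S := S) (T := T) (M := ↥N1)
    { toFun := fun x => c ^ ((Multiplicative.toAdd x : ↥N1) : ℤ).toNat
      map_one' := by simp
      map_mul' := fun x y => by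
        obtain ⟨a, ha⟩ := (Multiplicative.toAdd x).2
        obtain ⟨b, hb⟩ := (Multiplicative.toAdd y).2
        rw [toAdd_mul, AddSubmonoid.coe_add, Int.toNat_add, pow_add]
        · rw [← ha]; simp
        · rw [← hb]; simp }
  exact ⟨m, by rw [co, hm]; simp [gen]⟩

theorem co_comp (u : T' ⟶ T) (m : T ⟶ AMonS S ↥N1) : co (u ≫ m) = u.left.appTop (co m) :=
  CharPts.chi_comp u m gen

theorem chi_one {M : Type} [AddCommGroup M] (x : Multiplicative M) :
    CharPts.chi (1 : T ⟶ AMonS S M) x = 1 := by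
  have h1 : ∀ z, CharPts.chi (1 : T ⟶ AMonS S M) z * CharPts.chi (1 : T ⟶ AMonS S M) z =
      CharPts.chi (1 : T ⟶ AMonS S M) z := fun z => by
    rw [← CharPts.chi_mul, _root_.one_mul]
  have hu : IsUnit (CharPts.chi (1 : T ⟶ AMonS S M) x) :=
    (Group.isUnit x).map (CharPts.chi (1 : T ⟶ AMonS S M))
  exact hu.mul_left_cancel ((h1 x).trans (_root_.mul_one _).symm)

theorem co_mul (a b : T ⟶ AMonS S ↥N1) : co (a * b) = co a * co b := CharPts.chi_mul a b gen

theorem co_pow_succ (a : T ⟶ AMonS S ↥N1) (n : ℕ) : co (a ^ (n + 1)) = co a ^ (n + 1) := by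
  induction n with
  | zero => simp
  | succ n ih => rw [pow_succ a, co_mul, ih, ← pow_succ]

theorem absorbing_of_nilp (m : T ⟶ AMonS S ↥N1) (n : ℕ) (hn : co m ^ (n + 1) = 0) :
    ∀ m' : T ⟶ AMonS S ↥N1, m ^ (n + 1) * m' = m ^ (n + 1) := fun m' =>
  co_injective (by rw [co_mul, co_pow_succ, hn, zero_mul])

theorem exists_inv (g : T ⟶ AMonS S ℤ) : ∃ g' : T ⟶ AMonS S ℤ, g * g' = 1 ∧ g' * g = 1 := by
  obtain ⟨g', hg'⟩ := CharPts.exists_chi_eq (S := S) (T := T) (M := ℤ)
    ((CharPts.chi g).comp (invMonoidHom : Multiplicative ℤ →* Multiplicative ℤ))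
  have hv : ∀ m, CharPts.chi g' m = CharPts.chi g m⁻¹ := fun m => by rw [hg']; rfl
  constructor
  case w => exact g'
  constructor <;> refine CharPts.chi_injective (MonoidHom.ext fun m => ?_) <;>
    simp only [CharPts.chi_mul, chi_one, hv, ← map_mul, mul_inv_cancel, inv_mul_cancel, map_one]

theorem hom_eq_toSpecΓ {Z : Scheme.{u}} {R : CommRingCat.{u}} (f : Z ⟶ Spec R) :
    Z.toSpecΓ ≫ Spec.map ((Scheme.ΓSpecIso R).inv ≫ f.appTop) = f := by
  rw [Spec.map_comp, ← Category.assoc, ← Scheme.toSpecΓ_naturality, Category.assoc,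
    toSpecΓ_SpecMap_ΓSpecIso_inv, Category.comp_id]

variable {X Y : Over S}
variable (φ₁ φ₂ : AMonS S ↥N1 ⊗ Y ⟶ X)

/-- Agreement on all nilpotent points. -/
def AgreeNilp : Prop :=
  ∀ (T : Over S) (m : T ⟶ AMonS S ↥N1) (t : T ⟶ Y) (n : ℕ), co m ^ (n + 1) = 0 →
    lift m t ≫ φ₁ = lift m t ≫ φ₂

theorem isPullback_whiskerLeft (A : Over S) {Y' Y : Over S} (g : Y' ⟶ Y) :
    IsPullback (A ◁ g).left (snd A Y').left (snd A Y).left g.left := by
  refine IsPullback.of_right (h₁₂ := (fst A Y).left) (h₂₂ := Y.hom) (h₁₁ := (A ◁ g).left) ?_ (congrArg Over.Hom.left (whiskerLeft_snd A g)) (IsPullback.of_hasPullback A.hom Y.hom)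
  · show IsPullback ((A ◁ g).left ≫ (fst A Y).left) (snd A Y').left A.hom (g.left ≫ Y.hom)
    rw [show (A ◁ g).left ≫ (fst A Y).left = (fst A Y').left from congrArg Over.Hom.left (whiskerLeft_fst A g), Over.w g]
    exact IsPullback.of_hasPullback A.hom Y'.hom

theorem isUnit_map_of_nilp {R D : Type u} [CommRing R] [CommRing D] (θ : R[X] →+* D) (f : R[X]) (n : ℕ)
    (hX : θ Polynomial.X ^ (n + 1) = 0) (hC : IsUnit (θ (Polynomial.C (f.coeff 0)))) :
    IsUnit (θ (f * Polynomial.C (f.coeff 0))) := by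
  rw [map_mul]
  refine IsUnit.mul ?_ hC
  rw [← Polynomial.X_mul_divX_add f, map_add, map_mul]
  exact IsNilpotent.isUnit_add_right_of_commute ⟨n + 1, by rw [_root_.mul_pow, hX, zero_mul]⟩ hC (Commute.all _ _)

/-- `R[X]_F` embeds in the product of the `R_{f₀}[X]/(X^(n+1))`. -/
theorem eq_of_forall_truncation {R : Type u} [CommRing R] {f : R[X]} (F : R[X])
    (hF : F = f * Polynomial.C (f.coeff 0)) (a b : Localization.Away F)
    (h : ∀ (n : ℕ) (D : Type u) [CommRing D] (π : Localization.Away F →+* D),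
      π (algebraMap R[X] (Localization.Away F) Polynomial.X) ^ (n + 1) = 0 → π a = π b) : a = b := by
  classical
  rw [← sub_eq_zero]
  obtain ⟨⟨g, m⟩, hg⟩ := IsLocalization.surj (Submonoid.powers F) (a - b)
  let Rf := Localization.Away (f.coeff 0)
  let ρ : R[X] →+* Rf[X] := Polynomial.mapRingHom (algebraMap R Rf)
  have hcoeff : ∀ n, algebraMap R Rf (g.coeff n) = 0 := by
    intro n
    let I : Ideal Rf[X] := Ideal.span {Polynomial.X ^ (n + 1)}
    let θ : R[X] →+* Rf[X] ⧸ I := (Ideal.Quotient.mk I).comp ρ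
    have hXn : (Ideal.Quotient.mk I Polynomial.X) ^ (n + 1) = 0 := by
      rw [← map_pow, Ideal.Quotient.eq_zero_iff_mem]; exact Ideal.mem_span_singleton_self _
    have hunit : IsUnit (θ F) := by
      rw [hF]
      refine @isUnit_map_of_nilp R (Rf[X] ⧸ I) _ (Ideal.Quotient.commRing I) θ f n (by simpa [θ, ρ] using hXn)
        (by simpa [θ, ρ] using ((IsLocalization.Away.algebraMap_isUnit (S := Rf) (f.coeff 0)).map Polynomial.C).map (Ideal.Quotient.mk I))
    have hy : ∀ y : Submonoid.powers F, IsUnit (θ y) := fun y => by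
      obtain ⟨k, hk⟩ := y.2
      rw [← hk, map_pow]
      exact hunit.pow k
    letI : CommRing (Rf[X] ⧸ I) := Ideal.Quotient.commRing I
    let π : Localization.Away F →+* Rf[X] ⧸ I := @IsLocalization.lift R[X] _ (Submonoid.powers F) (Localization.Away F) _ _ (Rf[X] ⧸ I) (Ideal.Quotient.commRing I).toCommSemiring _ θ hy
    have hπ : ∀ z, π (algebraMap R[X] (Localization.Away F) z) = θ z := fun z => IsLocalization.lift_eq _ z
    have hab := h n _ π (by rw [hπ]; simpa [θ, ρ] using hXn)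
    have h1 : θ g = 0 := by
      rw [← hπ, ← hg, map_mul, map_sub, hab, sub_self, zero_mul]
    have h2 := (Polynomial.X_pow_dvd_iff.mp (Ideal.mem_span_singleton.mp (Ideal.Quotient.eq_zero_iff_mem.mp h1))) n n.lt_succ_self
    simpa [ρ] using h2
  choose j hj using fun n => (IsLocalization.map_eq_zero_iff (Submonoid.powers (f.coeff 0)) Rf (g.coeff n)).mp (hcoeff n)
  choose J hJ using fun n => (j n).2
  let J0 := g.support.sup J
  have hk : ∀ n, f.coeff 0 ^ J0 * g.coeff n = 0 := by
    intro n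
    by_cases hn : n ∈ g.support
    · obtain ⟨e, he⟩ := Nat.exists_eq_add_of_le (Finset.le_sup (f := J) hn)
      have hJn : f.coeff 0 ^ J n * g.coeff n = 0 := by rw [show f.coeff 0 ^ J n = (j n : R) from hJ n]; exact hj n
      rw [show J0 = J n + e from he, pow_add, mul_right_comm, hJn, zero_mul]
    · simp [Polynomial.notMem_support_iff.mp hn]
  have hgF : F ^ J0 * g = 0 := by
    rw [hF, _root_.mul_pow, _root_.mul_assoc, ← map_pow]
    rw [show Polynomial.C (f.coeff 0 ^ J0) * g = 0 from Polynomial.ext fun n => by rw [Polynomial.coeff_C_mul, hk n, Polynomial.coeff_zero], mul_zero]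
  have hz : algebraMap R[X] (Localization.Away F) g = 0 :=
    (IsLocalization.map_eq_zero_iff (Submonoid.powers F) _ _).mpr ⟨⟨F ^ J0, J0, rfl⟩, hgF⟩
  rw [hz] at hg
  exact (IsLocalization.map_units (Localization.Away F) m).mul_left_eq_zero.mp hg

theorem exists_agree_nhd (h : AgreeNilp φ₁ φ₂) {K : Type u} [Field K] (pt : Spec (CommRingCat.of K) ⟶ S)
    (m : Over.mk pt ⟶ AMonS S ↥N1) (t : Over.mk pt ⟶ Y) (hm : co m = 0) :
    ∃ O : (AMonS S ↥N1 ⊗ Y).left.Opens, O.ι ≫ φ₁.left = O.ι ≫ φ₂.left ∧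
      (lift m t).left (IsLocalRing.closedPoint K) ∈ O := by
  obtain ⟨R, jR, hjR, v, hv⟩ : ∃ (R : CommRingCat.{u}) (jR : Spec R ⟶ Y.left) (_ : IsOpenImmersion jR)
      (v : Spec R), jR v = t.left (IsLocalRing.closedPoint K) := by
    obtain ⟨i, v, hv⟩ := Y.left.affineCover.exists_eq (t.left (IsLocalRing.closedPoint K))
    haveI : IsAffine (Y.left.affineCover.X i) := inferInstance
    refine ⟨_, (Y.left.affineCover.X i).isoSpec.inv ≫ Y.left.affineCover.f i, inferInstance,
      (Y.left.affineCover.X i).isoSpec.hom v, ?_⟩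
    rw [← hv, ← Scheme.Hom.comp_apply, Iso.hom_inv_id_assoc]
  let W : Over S := Over.mk (jR ≫ Y.hom)
  let jW : W ⟶ Y := Over.homMk jR rfl
  -- the affine line over `W`
  let RX : CommRingCat.{u} := CommRingCat.of R[X]
  let Q : Over S := Over.mk (Spec.map (CommRingCat.ofHom (Polynomial.C : R →+* R[X])) ≫ W.hom)
  let qW : Q ⟶ W := Over.homMk (Spec.map (CommRingCat.ofHom (Polynomial.C : R →+* R[X]))) rfl
  obtain ⟨qA, hqA⟩ := exists_co_eq (T := Q) ((Scheme.ΓSpecIso RX).inv.hom Polynomial.X)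
  let q : Q ⟶ AMonS S ↥N1 ⊗ W := lift qA qW
  let P' : Over S := AMonS S ↥N1 ⊗ W
  let pR : R →+* Γ(P'.left, ⊤) := ((Scheme.ΓSpecIso R).inv ≫ (snd (AMonS S ↥N1) W).left.appTop).hom
  let ev : RX ⟶ Γ(P'.left, ⊤) :=
    CommRingCat.ofHom (Polynomial.eval₂RingHom pR (co (fst (AMonS S ↥N1) W)))
  let rl : P'.left ⟶ Spec RX := P'.left.toSpecΓ ≫ Spec.map ev
  have hrl : rl ≫ Spec.map (CommRingCat.ofHom (Polynomial.C : R →+* R[X])) = (snd (AMonS S ↥N1) W).left := by
    refine Eq.trans ?_ (hom_eq_toSpecΓ (snd (AMonS S ↥N1) W).left)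
    rw [Category.assoc, ← Spec.map_comp]
    congr 2
    ext x
    exact Polynomial.eval₂_C pR (co (fst (AMonS S ↥N1) W))
  let r : P' ⟶ Q := Over.homMk rl (by
    show rl ≫ Spec.map _ ≫ W.hom = P'.hom
    rw [← Category.assoc, hrl, Over.w])
  have hr : r.left.appTop.hom ((Scheme.ΓSpecIso RX).inv.hom Polynomial.X) = co (fst (AMonS S ↥N1) W) := by
    have e : (Scheme.ΓSpecIso RX).inv ≫ rl.appTop = ev := by
      rw [Scheme.Hom.comp_appTop, ← Category.assoc, ← Scheme.ΓSpecIso_inv_naturality, Category.assoc,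
        Scheme.toSpecΓ_appTop]
      exact (congrArg (ev ≫ ·) (Scheme.ΓSpecIso _).inv_hom_id).trans (Category.comp_id _)
    exact (congrArg (fun w : RX ⟶ Γ(P'.left, ⊤) => w.hom Polynomial.X) e).trans (Polynomial.eval₂_X pR _)
  have hrq : r ≫ q = 𝟙 P' := by
    apply CartesianMonoidalCategory.hom_ext
    · rw [Category.id_comp, Category.assoc, lift_fst]
      refine co_injective ?_
      rw [co_comp, hqA]
      exact hr
    · rw [Category.id_comp, Category.assoc, lift_snd]
      exact Over.OverMorphism.ext hrl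
  have hqr : q ≫ r = 𝟙 Q := by
    refine Over.OverMorphism.ext ?_
    show q.left ≫ rl = 𝟙 (Spec RX)
    have e2 : q.left ≫ rl = (Spec RX).toSpecΓ ≫ Spec.map (ev ≫ q.left.appTop) := by
      rw [Spec.map_comp, ← Category.assoc]
      exact (Category.assoc _ _ _).symm.trans (congrArg (· ≫ Spec.map ev) (Scheme.toSpecΓ_naturality q.left))
    rw [e2, show ev ≫ q.left.appTop = (Scheme.ΓSpecIso RX).inv from ?_, toSpecΓ_SpecMap_ΓSpecIso_inv]
    refine CommRingCat.hom_ext (Polynomial.ringHom_ext (fun a => ?_) ?_)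
    · have hc : (q ≫ snd (AMonS S ↥N1) W).left = Spec.map (CommRingCat.ofHom (Polynomial.C : R →+* R[X])) :=
        congrArg Over.Hom.left (lift_snd qA qW)
      have hn := congrArg (fun w => ((Scheme.ΓSpecIso R).inv ≫ Scheme.Hom.appTop w).hom a) hc
      simp only [← Scheme.ΓSpecIso_inv_naturality] at hn
      simp only [CommRingCat.hom_comp, RingHom.comp_apply] at hn ⊢
      show (q.left.appTop).hom (Polynomial.eval₂ pR (co (fst (AMonS S ↥N1) W)) (Polynomial.C a)) = _
      rw [Polynomial.eval₂_C]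
      exact hn
    · have h1 := (co_comp q (fst (AMonS S ↥N1) W)).symm.trans ((congrArg co (lift_fst qA qW)).trans hqA)
      simp only [CommRingCat.hom_comp, RingHom.comp_apply]
      simpa [ev] using h1
  let qiso : Q ≅ AMonS S ↥N1 ⊗ W := ⟨q, r, hqr, hrq⟩
  have : IsIso q.left := ((Over.forget S).mapIso qiso).isIso_hom
  haveI := hjR
  haveI : IsOpenImmersion (AMonS S ↥N1 ◁ jW).left :=
    MorphismProperty.of_isPullback (P := @IsOpenImmersion) (isPullback_whiskerLeft (AMonS S ↥N1) jW).flip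
      (inferInstanceAs (IsOpenImmersion jR))
  · let e : Q.left ⟶ (AMonS S ↥N1 ⊗ Y).left := (q ≫ (AMonS S ↥N1 ◁ jW)).left
    haveI : IsOpenImmersion e := inferInstanceAs (IsOpenImmersion (q.left ≫ (AMonS S ↥N1 ◁ jW).left))
    -- lift the point
    have hrange : Set.range t.left ⊆ Set.range jR := by
      rintro _ ⟨x, rfl⟩
      exact ⟨v, hv.trans (congrArg t.left (Subsingleton.elim (α := PrimeSpectrum K) _ _))⟩
    let tW : Over.mk pt ⟶ W := Over.homMk (IsOpenImmersion.lift jR t.left hrange) (by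
      show IsOpenImmersion.lift jR t.left hrange ≫ jR ≫ Y.hom = _
      rw [← Category.assoc, IsOpenImmersion.lift_fac, Over.w t])
    have htW : tW ≫ jW = t := Over.OverMorphism.ext (IsOpenImmersion.lift_fac _ _ _)
    let zQ : Over.mk pt ⟶ Q := lift m tW ≫ r
    have hzQ : zQ ≫ q ≫ (AMonS S ↥N1 ◁ jW) = lift m t := by
      rw [← Category.assoc, Category.assoc _ r q, hrq, Category.comp_id, lift_whiskerLeft, htW]
    have hze : e (zQ.left (IsLocalRing.closedPoint K)) = (lift m t).left (IsLocalRing.closedPoint K) := by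
      rw [← hzQ]; rfl
    -- a neighbourhood mapping into one affine open of `X`
    let ψ₁ : Q ⟶ X := q ≫ (AMonS S ↥N1 ◁ jW) ≫ φ₁
    let ψ₂ : Q ⟶ X := q ≫ (AMonS S ↥N1 ◁ jW) ≫ φ₂
    have hψz : zQ ≫ ψ₁ = zQ ≫ ψ₂ := by
      simp only [ψ₁, ψ₂]
      rw [reassoc_of% hzQ, reassoc_of% hzQ]
      exact h _ m t 0 (by rw [zero_add, _root_.pow_one, hm])
    obtain ⟨_, ⟨U, hU, rfl⟩, hzU, -⟩ := X.left.isBasis_affineOpens.exists_subset_of_mem_open
      (Set.mem_univ (ψ₁.left (zQ.left (IsLocalRing.closedPoint K)))) isOpen_univ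
    have hz2 : ψ₂.left (zQ.left (IsLocalRing.closedPoint K)) ∈ U := by
      have := congrArg (fun w : Over.mk pt ⟶ X => w.left.base (IsLocalRing.closedPoint K)) hψz
      exact this ▸ hzU
    obtain ⟨-, ⟨f, rfl⟩, hzf, hfU⟩ := PrimeSpectrum.isTopologicalBasis_basic_opens.exists_subset_of_mem_open
      (show zQ.left (IsLocalRing.closedPoint K) ∈ ((ψ₁.left ⁻¹ᵁ U ⊓ ψ₂.left ⁻¹ᵁ U : Q.left.Opens) : Set Q.left)
        from ⟨hzU, hz2⟩) (ψ₁.left ⁻¹ᵁ U ⊓ ψ₂.left ⁻¹ᵁ U : Q.left.Opens).2
    let f' : R[X] := f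
    let F : R[X] := f' * Polynomial.C (f'.coeff 0)
    -- the point is the zero section
    let zK : RX ⟶ CommRingCat.of K := Spec.preimage zQ.left
    have hzK : Spec.map zK = zQ.left := Spec.map_preimage _
    have hzX : zK.hom Polynomial.X = 0 := by
      have h1 : co (zQ ≫ q ≫ fst _ _) = 0 := by
        rw [← Category.assoc, Category.assoc _ r q, hrq, Category.comp_id, lift_fst, hm]
      rw [lift_fst, co_comp, hqA, ← hzK] at h1
      have h2 := congrArg (fun w => w.hom Polynomial.X) (Scheme.ΓSpecIso_inv_naturality zK)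
      simp only [CommRingCat.hom_comp, RingHom.comp_apply] at h2
      exact ((map_eq_zero_iff _ (ConcreteCategory.bijective_of_isIso (Scheme.ΓSpecIso (CommRingCat.of K)).inv).1).mp
        (h2.trans h1))
    have hzf' : zK.hom f' ≠ 0 := by
      intro h0
      apply hzf
      rw [← hzK]
      show f' ∈ ((Spec.map zK) (IsLocalRing.closedPoint K) : PrimeSpectrum R[X]).asIdeal
      exact (show zK.hom f' ∈ IsLocalRing.maximalIdeal K by simp [h0])
    have hf0 : zK.hom f' = zK.hom (Polynomial.C (f'.coeff 0)) := by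
      conv_lhs => rw [← Polynomial.X_mul_divX_add f']
      rw [map_add, map_mul]
      erw [hzX]
      rw [zero_mul, zero_add]
    have hzF : zQ.left (IsLocalRing.closedPoint K) ∈ (PrimeSpectrum.basicOpen F : Q.left.Opens) := by
      rw [← hzK]
      show F ∉ ((Spec.map zK) (IsLocalRing.closedPoint K) : PrimeSpectrum R[X]).asIdeal
      intro hF
      have : zK.hom F ∈ IsLocalRing.maximalIdeal K := hF
      rw [IsLocalRing.maximalIdeal_eq_bot, Ideal.mem_bot, map_mul, ← hf0] at this
      exact hzf' ((mul_self_eq_zero).mp this)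
    let B : CommRingCat.{u} := CommRingCat.of (Localization.Away F)
    let β : Spec B ⟶ Q.left := Spec.map (CommRingCat.ofHom (algebraMap R[X] (Localization.Away F)))
    haveI : IsOpenImmersion β := inferInstanceAs (IsOpenImmersion (Spec.map _))
    have hβ : Set.range β = (PrimeSpectrum.basicOpen F : Set (PrimeSpectrum R[X])) :=
      PrimeSpectrum.localization_away_comap_range (Localization.Away F) F
    have hsub : ∀ x, ψ₁.left (β x) ∈ U ∧ ψ₂.left (β x) ∈ U := fun x => by
      have hx : β x ∈ (PrimeSpectrum.basicOpen F : Set (PrimeSpectrum R[X])) := hβ ▸ ⟨x, rfl⟩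
      exact hfU (show β x ∈ (PrimeSpectrum.basicOpen f' : Set (PrimeSpectrum R[X])) from
        PrimeSpectrum.basicOpen_mul_le_left f' (Polynomial.C (f'.coeff 0)) hx)
    let α₁ := IsOpenImmersion.lift (Scheme.Opens.ι (X := X.left) U) (β ≫ ψ₁.left) (by
      rw [Scheme.Opens.range_ι]; rintro _ ⟨x, rfl⟩; exact (hsub x).1)
    let α₂ := IsOpenImmersion.lift (Scheme.Opens.ι (X := X.left) U) (β ≫ ψ₂.left) (by
      rw [Scheme.Opens.range_ι]; rintro _ ⟨x, rfl⟩; exact (hsub x).2)
    have hα : α₁ = α₂ := by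
      haveI : IsAffine (U : Scheme.{u}) := hU
      refine ext_of_isAffine (CommRingCat.hom_ext (RingHom.ext fun s => ?_))
      apply (ConcreteCategory.bijective_of_isIso (Scheme.ΓSpecIso B).hom).1
      refine eq_of_forall_truncation F rfl _ _ fun n D _ π hπ => ?_
      -- a nilpotent point over `Spec D`
      let d : Spec (CommRingCat.of D) ⟶ Spec B := Spec.map (CommRingCat.ofHom π)
      let TD : Over S := Over.mk (d ≫ β ≫ Q.hom)
      let u : TD ⟶ Q := Over.homMk (d ≫ β) (Category.assoc _ _ _)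
      have hu : lift (u ≫ qA) (u ≫ qW ≫ jW) = u ≫ q ≫ (AMonS S ↥N1 ◁ jW) := by
        rw [← comp_lift, lift_whiskerLeft]
      have hn : co (u ≫ qA) ^ (n + 1) = 0 := by
        rw [co_comp, hqA]
        have h3 := congrArg (fun w => w.hom Polynomial.X)
          (Scheme.ΓSpecIso_inv_naturality (CommRingCat.ofHom (algebraMap R[X] (Localization.Away F)) ≫ CommRingCat.ofHom π))
        simp only [CommRingCat.hom_comp, RingHom.comp_apply, Spec.map_comp] at h3
        erw [← h3]
        rw [← map_pow]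
        refine (congrArg _ ?_).trans (map_zero _)
        exact hπ
      have hD := h TD (u ≫ qA) (u ≫ qW ≫ jW) n hn
      rw [hu] at hD
      have hD' : d ≫ α₁ = d ≫ α₂ := by
        rw [← cancel_mono (Scheme.Opens.ι (X := X.left) U), Category.assoc, Category.assoc, IsOpenImmersion.lift_fac, IsOpenImmersion.lift_fac]
        have := congrArg Over.Hom.left hD
        simpa [ψ₁, ψ₂, u] using this
      have h4 := congrArg (fun w : Spec (CommRingCat.of D) ⟶ (U : Scheme.{u}) =>
        (w.appTop ≫ (Scheme.ΓSpecIso (CommRingCat.of D)).hom).hom s) hD'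
      simp only [Scheme.Hom.comp_appTop, Category.assoc, Scheme.ΓSpecIso_naturality, CommRingCat.hom_comp,
        RingHom.comp_apply] at h4
      have h6 := congrArg (fun w => w.hom (α₁.appTop.hom s)) (Scheme.ΓSpecIso_naturality (CommRingCat.ofHom π))
      have h7 := congrArg (fun w => w.hom (α₂.appTop.hom s)) (Scheme.ΓSpecIso_naturality (CommRingCat.ofHom π))
      exact h6.symm.trans (h4.trans h7)
    refine ⟨(β ≫ e).opensRange, ?_, ?_⟩
    · rw [← cancel_epi (β ≫ e).isoOpensRange.hom, Scheme.Hom.isoOpensRange_hom_ι_assoc,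
        Scheme.Hom.isoOpensRange_hom_ι_assoc]
      have h5 := congrArg (· ≫ (Scheme.Opens.ι (X := X.left) U)) hα
      simp only [α₁, α₂, IsOpenImmersion.lift_fac] at h5
      simpa [ψ₁, ψ₂, e] using h5
    · obtain ⟨x, hx⟩ : zQ.left (IsLocalRing.closedPoint K) ∈ Set.range β := hβ ▸ hzF
      exact ⟨x, by rw [Scheme.Hom.comp_apply, hx, hze]⟩

/-- Equivariant maps `A¹ × Y ⟶ X` that agree on nilpotent points are equal. -/
theorem eq_of_agreeNilp [Flat (AMonS S ℤ).hom] (a : MonAct (AMonS S ℤ) X)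
    (h₁ : MonAct.IsEquivariant ((subAct S ℤ N1).prod (MonAct.trivial (AMonS S ℤ) Y)) a φ₁)
    (h₂ : MonAct.IsEquivariant ((subAct S ℤ N1).prod (MonAct.trivial (AMonS S ℤ) Y)) a φ₂)
    (h : AgreeNilp φ₁ φ₂) : φ₁ = φ₂ := by
  let G := AMonS S ℤ
  let P : Over S := AMonS S ↥N1 ⊗ Y
  let aP : MonAct G P := (subAct S ℤ N1).prod (MonAct.trivial G Y)
  let W₀ : P.left.Opens := ⨆ O : {O : P.left.Opens // O.ι ≫ φ₁.left = O.ι ≫ φ₂.left}, O.1
  have hW₀ : W₀.ι ≫ φ₁.left = W₀.ι ≫ φ₂.left := by
    refine (Scheme.openCoverOfIsOpenCover (W₀ : Scheme.{u})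
      (fun O : {O : P.left.Opens // O.ι ≫ φ₁.left = O.ι ≫ φ₂.left} => W₀.ι ⁻¹ᵁ O.1) ?_).hom_ext _ _ fun O => ?_
    · refine top_le_iff.mp fun x _ => ?_
      obtain ⟨O, hO⟩ := TopologicalSpace.Opens.mem_iSup.mp x.2
      exact TopologicalSpace.Opens.mem_iSup.mpr ⟨O, hO⟩
    · show (W₀.ι ⁻¹ᵁ O.1).ι ≫ W₀.ι ≫ _ = (W₀.ι ⁻¹ᵁ O.1).ι ≫ W₀.ι ≫ _
      rw [← Category.assoc, ← Category.assoc, ← morphismRestrict_ι, Category.assoc, Category.assoc, O.2]
  -- the shear automorphism of `G ⊗ P`
  obtain ⟨gi, hgi, hgi'⟩ := exists_inv (fst G P)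
  have hshear : IsIso (lift (fst G P) aP.act) := by
    refine ⟨lift (fst G P) (lift gi (snd G P) ≫ aP.act), ?_, ?_⟩
    · apply CartesianMonoidalCategory.hom_ext
      · rw [Category.assoc, lift_fst, lift_fst, Category.id_comp]
      · have e1 : lift (fst G P) aP.act ≫ gi = gi := by
          have e : lift (fst G P) aP.act ≫ gi * fst G P = 1 :=
            (congrArg (lift (fst G P) aP.act ≫ gi * ·) (lift_fst (fst G P) aP.act).symm).trans
              ((MonObj.comp_mul _ _ _).symm.trans (by rw [hgi', MonObj.comp_one]))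
          calc lift (fst G P) aP.act ≫ gi
              = lift (fst G P) aP.act ≫ gi * (fst G P * gi) := by rw [hgi, _root_.mul_one]
            _ = gi := by rw [← _root_.mul_assoc, e, _root_.one_mul]
        rw [Category.assoc, lift_snd, comp_lift_assoc, lift_snd, e1, Category.id_comp]
        conv_lhs => arg 1; rw [show aP.act = lift (fst G P) (snd G P) ≫ aP.act by rw [lift_fst_snd, Category.id_comp]]
        rw [← aP.lift_mul_act, hgi', aP.lift_one_act]
    · apply CartesianMonoidalCategory.hom_ext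
      · rw [Category.assoc, lift_fst, lift_fst, Category.id_comp]
      · rw [Category.assoc, lift_snd, Category.id_comp]
        conv_lhs => arg 2; rw [show aP.act = lift (fst G P) (snd G P) ≫ aP.act by rw [lift_fst_snd, Category.id_comp]]
        rw [comp_lift_assoc, lift_fst, lift_snd, ← aP.lift_mul_act, hgi, aP.lift_one_act]
  have : IsIso (lift (fst G P) aP.act).left := inferInstanceAs (IsIso ((Over.forget S).map (lift (fst G P) aP.act)))
  haveI : Flat (snd G P).left := inferInstanceAs (Flat (pullback.snd G.hom P.hom))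
  haveI : Flat aP.act.left := by
    rw [← lift_snd (fst G P) aP.act]
    exact inferInstanceAs (Flat ((lift (fst G P) aP.act).left ≫ (snd G P).left))
  let O' : (G ⊗ P).left.Opens := (snd G P).left ⁻¹ᵁ W₀
  -- surjectivity
  haveI : Surjective (O'.ι ≫ aP.act.left) := by
    refine ⟨fun p => ?_⟩
    let K := P.left.residueField p
    let pt : Over.mk (P.left.fromSpecResidueField p ≫ P.hom) ⟶ P := Over.homMk (P.left.fromSpecResidueField p) rfl
    obtain ⟨o, ho⟩ := exists_co_eq (S := S) (T := Over.mk (P.left.fromSpecResidueField p ≫ P.hom)) 0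
    let y := pt ≫ snd _ Y
    obtain ⟨O, hOeq, hO⟩ := exists_agree_nhd φ₁ φ₂ h (K := K) (P.left.fromSpecResidueField p ≫ P.hom) o y ho
    have hoW : (lift o y).left (IsLocalRing.closedPoint K) ∈ W₀ :=
      TopologicalSpace.Opens.mem_iSup.mpr ⟨⟨O, hOeq⟩, hO⟩
    -- generic point of the line over `p`
    let Kx : CommRingCat.{u} := CommRingCat.of (Polynomial K)
    let L : CommRingCat.{u} := CommRingCat.of (RatFunc K)
    let πK : Spec Kx ⟶ Spec K := Spec.map (CommRingCat.ofHom (Polynomial.C : K →+* Polynomial K))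
    let TX : Over S := Over.mk (πK ≫ P.left.fromSpecResidueField p ≫ P.hom)
    let πT : TX ⟶ Over.mk (P.left.fromSpecResidueField p ≫ P.hom) := Over.homMk πK rfl
    obtain ⟨sX, hsX⟩ := exists_co_eq (T := TX) ((Scheme.ΓSpecIso Kx).inv.hom Polynomial.X)
    let u : TX ⟶ P := lift sX (πT ≫ y)
    let z0 : Spec K ⟶ Spec Kx := Spec.map (CommRingCat.ofHom (Polynomial.evalRingHom (0 : K)))
    have hzπ : z0 ≫ πK = 𝟙 _ := by
      refine (Spec.map_comp _ _).symm.trans ((congrArg Spec.map ?_).trans (Spec.map_id _))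
      ext x
      show Polynomial.eval 0 (Polynomial.C x) = x
      simp
    let zT : Over.mk (P.left.fromSpecResidueField p ≫ P.hom) ⟶ TX := Over.homMk z0 (by
      show z0 ≫ πK ≫ _ = _
      rw [← Category.assoc, hzπ, Category.id_comp]; rfl)
    have hzu : zT ≫ u = lift o y := by
      rw [comp_lift, ← Category.assoc, show zT ≫ πT = 𝟙 _ from Over.OverMorphism.ext hzπ, Category.id_comp]
      congr 1
      refine co_injective ?_
      rw [co_comp, hsX, ho]
      have := congrArg (fun w => w.hom Polynomial.X) (Scheme.ΓSpecIso_inv_naturality (CommRingCat.ofHom (Polynomial.evalRingHom (0 : K))))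
      refine this.symm.trans ?_
      show (Scheme.ΓSpecIso K).inv.hom ((Polynomial.evalRingHom (0 : K)) Polynomial.X) = 0
      simp
    let TL : Over S := Over.mk (Spec.map (CommRingCat.ofHom (algebraMap (Polynomial K) (RatFunc K))) ≫ TX.hom)
    let ℓ : TL ⟶ TX := Over.homMk (Spec.map (CommRingCat.ofHom (algebraMap (Polynomial K) (RatFunc K)))) rfl
    have hgen : (ℓ ≫ u).left (IsLocalRing.closedPoint (RatFunc K)) ∈ W₀ := by
      have hspec : ℓ.left (IsLocalRing.closedPoint (RatFunc K)) ⤳ z0 (IsLocalRing.closedPoint K) := by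
        show (PrimeSpectrum.comap (algebraMap (Polynomial K) (RatFunc K)) (IsLocalRing.closedPoint _) :
          PrimeSpectrum (Polynomial K)) ⤳ _
        refine (PrimeSpectrum.le_iff_specializes _ _).mp fun x hx => ?_
        have hx0 : algebraMap (Polynomial K) (RatFunc K) x ∈ IsLocalRing.maximalIdeal (RatFunc K) := hx
        rw [IsLocalRing.maximalIdeal_eq_bot, Ideal.mem_bot, map_eq_zero_iff _ (IsFractionRing.injective (Polynomial K) (RatFunc K))] at hx0
        subst hx0
        exact zero_mem _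
      have h0 : z0 (IsLocalRing.closedPoint K) ∈ u.left ⁻¹ᵁ W₀ := by
        show (zT ≫ u).left (IsLocalRing.closedPoint K) ∈ W₀
        rw [hzu]
        exact hoW
      exact hspec.mem_open (u.left ⁻¹ᵁ W₀).2 h0
    let c : K := (Scheme.ΓSpecIso K).hom.hom (co (pt ≫ fst _ Y))
    have hcinv : (Scheme.ΓSpecIso K).inv.hom c = co (pt ≫ fst _ Y) :=
      congrArg (fun w => w.hom (co (pt ≫ fst _ Y))) (Scheme.ΓSpecIso K).hom_inv_id
    -- it suffices to find a point of `O'` over `p`
    have hp : pt.left (IsLocalRing.closedPoint K) = p := P.left.fromSpecResidueField_apply p _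
    suffices hex : ∃ (T : Over S) (v : T ⟶ G ⊗ P) (x : T.left), v.left x ∈ O' ∧ (v ≫ aP.act).left x = p by
      obtain ⟨T, v, x, hx, hxp⟩ := hex
      exact ⟨⟨v.left x, hx⟩, hxp⟩
    by_cases hc : c = 0
    · refine ⟨_, lift 1 pt, IsLocalRing.closedPoint K, ?_, by rw [aP.lift_one_act]; exact hp⟩
      show (lift 1 pt ≫ snd G P).left (IsLocalRing.closedPoint K) ∈ W₀
      rw [lift_snd]
      have : lift o y = pt := by
        apply CartesianMonoidalCategory.hom_ext
        · rw [lift_fst]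
          refine co_injective ?_
          rw [ho, ← hcinv, hc, map_zero]
        · rw [lift_snd]
      exact this ▸ hoW
    · have hne : (algebraMap (Polynomial K) (RatFunc K) (Polynomial.C c)) / RatFunc.X ≠ 0 :=
        div_ne_zero (by simpa using hc) RatFunc.X_ne_zero
      obtain ⟨g, hg⟩ := CharPts.exists_chi_eq (S := S) (T := TL) (M := ℤ)
        ((((Scheme.ΓSpecIso L).inv.hom).toMonoidHom.comp (Units.coeHom (RatFunc K))).comp
          (zpowersHom (RatFunc K)ˣ (Units.mk0 _ hne)))
      refine ⟨TL, lift g (ℓ ≫ u), IsLocalRing.closedPoint (RatFunc K), ?_, ?_⟩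
      · show (lift g (ℓ ≫ u) ≫ snd G P).left (IsLocalRing.closedPoint (RatFunc K)) ∈ W₀
        rw [lift_snd]
        exact hgen
      · have hact : lift g (ℓ ≫ u) ≫ aP.act = ℓ ≫ πT ≫ pt := by
          rw [show ℓ ≫ u = lift (ℓ ≫ sX) (ℓ ≫ πT ≫ y) from comp_lift _ _ _]
          rw [MonAct.lift_prod_act, MonAct.lift_trivial_act]
          apply CartesianMonoidalCategory.hom_ext
          · rw [lift_fst]
            show lift g (ℓ ≫ sX) ≫ ((MonAct.regular (AMonS S ↥N1)).restrict (AMonS.map S N1.subtype)).act = _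
            rw [MonAct.lift_restrict_act, MonAct.lift_regular_act]
            refine co_injective ?_
            rw [co_mul, co_comp ℓ sX, hsX]
            rw [show co (g ≫ AMonS.map S N1.subtype) = _ from CharPts.chi_map N1.subtype g gen, hg]
            have e1 := congrArg (fun w => w.hom Polynomial.X)
              (Scheme.ΓSpecIso_inv_naturality (CommRingCat.ofHom (algebraMap (Polynomial K) (RatFunc K))))
            have e2 := congrArg (fun w => w.hom c)
              (Scheme.ΓSpecIso_inv_naturality (CommRingCat.ofHom ((algebraMap (Polynomial K) (RatFunc K)).comp Polynomial.C)))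
            rw [show ℓ ≫ πT ≫ pt = (ℓ ≫ πT) ≫ pt from (Category.assoc _ _ _).symm, Category.assoc]
            rw [co_comp, ← hcinv]
            simp only [CommRingCat.ofHom_comp, Spec.map_comp] at e2
            refine Eq.trans ?_ e2
            show (Scheme.ΓSpecIso L).inv.hom _ * _ = _
            erw [show (ConcreteCategory.hom (Scheme.Hom.appTop ℓ.left)) ((Scheme.ΓSpecIso Kx).inv.hom Polynomial.X) = (Scheme.ΓSpecIso L).inv.hom (algebraMap (Polynomial K) (RatFunc K) Polynomial.X) from e1.symm]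
            simp only [CommRingCat.hom_comp, RingHom.comp_apply, CommRingCat.hom_ofHom, ← map_mul]
            refine congrArg _ ?_
            simp [gen, RatFunc.X_ne_zero, RatFunc.algebraMap_X]
            exact div_mul_cancel₀ _ RatFunc.X_ne_zero
          · rw [lift_snd, Category.assoc, Category.assoc]
        rw [hact]
        show pt.left (πK _) = p
        exact (congrArg pt.left (Subsingleton.elim (α := PrimeSpectrum K) _ _)).trans hp
  haveI : Flat (O'.ι ≫ aP.act.left) := inferInstance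
  haveI := Flat.epi_of_flat_of_surjective (O'.ι ≫ aP.act.left)
  refine Over.OverMorphism.ext ((cancel_epi (O'.ι ≫ aP.act.left)).mp ?_)
  let T : Over S := Over.mk (O'.ι ≫ (G ⊗ P).hom)
  let ι' : T ⟶ G ⊗ P := Over.homMk O'.ι rfl
  have key : ι' ≫ aP.act ≫ φ₁ = ι' ≫ aP.act ≫ φ₂ := by
    rw [show aP.act ≫ φ₁ = _ from h₁, show aP.act ≫ φ₂ = _ from h₂]
    have hsnd : ι' ≫ snd G P ≫ φ₁ = ι' ≫ snd G P ≫ φ₂ := by
      refine Over.OverMorphism.ext ?_
      show O'.ι ≫ (snd G P).left ≫ φ₁.left = O'.ι ≫ (snd G P).left ≫ φ₂.left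
      rw [← Category.assoc, ← Category.assoc, ← morphismRestrict_ι, Category.assoc, Category.assoc, hW₀]
    rw [← Category.assoc, ← Category.assoc]
    congr 1
    apply CartesianMonoidalCategory.hom_ext
    · rw [Category.assoc, Category.assoc, whiskerLeft_fst, whiskerLeft_fst]
    · rw [Category.assoc, Category.assoc, whiskerLeft_snd, whiskerLeft_snd]
      exact hsnd
  have := congrArg Over.Hom.left key
  simp only [Over.comp_left, ← Category.assoc] at this
  exact this

end Groth.Agent.MagnetLib.NilpExt
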